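import Groth.Agent.S11194
import Groth.Agent.DynLib.SolvCell26

/-!
# Open subgroups: the idempotent and the finitely many cosets
-/

set_option autoImplicit false
set_option backward.isDefEq.respectTransparency false
set_option backward.isDefEq.respectTransparency.types false

universe u

open CategoryTheory MonoidalCategory CartesianMonoidalCategory MonObj GrpObj AlgebraicGeometry
open scoped TensorProduct
open Groth.Agent.CommAlg4.AffPt Groth.Agent

noncomputable section

namespace Groth.Agent.AGF12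

variable {k : Type u} [Field k]

/-- The subgroup of rational points of a subgroup scheme. -/
def ptsRange {G K : Over (Spec (CommRingCat.of k))} [GrpObj G] [GrpObj K] (j : K ⟶ G) [IsMonHom j] :
    Subgroup (VecGrp.pt k k ⟶ G) :=
  (MonoidHom.mk' (fun x : VecGrp.pt k k ⟶ K => x ≫ j) (fun x y => MonObj.mul_comp x y j)).range

theorem mem_ptsRange {G K : Over (Spec (CommRingCat.of k))} [GrpObj G] [GrpObj K] (j : K ⟶ G) [IsMonHom j]
    (x : VecGrp.pt k k ⟶ G) : x ∈ ptsRange j ↔ ∃ y : VecGrp.pt k k ⟶ K, y ≫ j = x := Iff.rfl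

variable [IsAlgClosed k]

theorem exists_idem {G K : Over (Spec (CommRingCat.of k))} [GrpObj G] [GrpObj K] [IsAffine G.left] [Smooth G.hom]
    (j : K ⟶ G) [IsMonHom j] [IsOpenImmersion j.left] :
    ∃ e : Γ(G.left, ⊤), IsIdempotentElem e ∧ j.left.appTop e = 1 ∧
      (∀ t ∈ ptsRange j, algPt t e = 1) ∧ (∀ t ∉ ptsRange j, algPt t e = 0) := by
  haveI : IsClosedImmersion j.left := S11194.isClosedImmersion_of_open j
  haveI : IsAffine K.left := isAffine_of_isAffineHom j.left
  haveI : IsLocallyNoetherian G.left := LocallyOfFiniteType.isLocallyNoetherian G.hom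
  haveI : IsNoetherianRing Γ(G.left, ⊤) := IsLocallyNoetherian.component_noetherian ⟨⊤, isAffineOpen_top _⟩
  let I := RingHom.ker j.left.appTop.hom
  have hflat : j.left.appTop.hom.Flat := HasRingHomProperty.appTop (P := @Flat) j.left inferInstance
  have hs : Function.Surjective j.left.appTop.hom := fun y => Scheme.Hom.app_surjective j.left ⊤ (isAffineOpen_top _) y
  haveI : I.Pure := by
    letI := j.left.appTop.hom.toAlgebra
    haveI : Module.Flat Γ(G.left, ⊤) Γ(K.left, ⊤) := hflat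
    exact Module.Flat.of_linearEquiv (Ideal.quotientKerAlgEquivOfSurjective
      (f := Algebra.ofId Γ(G.left, ⊤) Γ(K.left, ⊤)) hs).toLinearEquiv
  obtain ⟨e, he, hIe⟩ := (Ideal.isIdempotentElem_iff_of_fg I (IsNoetherian.noetherian I)).1 (Ideal.isIdempotentElem_of_pure I)
  have hje : j.left.appTop e = 0 := (show e ∈ I from hIe ▸ Submodule.mem_span_singleton_self e)
  refine ⟨1 - e, he.one_sub, by rw [map_sub, map_one, hje, sub_zero], ?_, fun t ht => ?_⟩
  · rintro t ⟨y, rfl⟩
    show algPt (y ≫ j) (1 - e) = 1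
    rw [algPt_comp, map_sub, map_one, hje, sub_zero, map_one]
  have h2 : algPt t e * algPt t e = algPt t e := by rw [← map_mul, he.eq]
  by_cases h0 : algPt t e = 0
  · refine absurd ((mem_ptsRange j t).2 (exists_pt_of_ker t fun x hx => ?_)) ht
    have hxI : x ∈ I := hx
    rw [hIe] at hxI
    obtain ⟨a, rfl⟩ := Submodule.mem_span_singleton.1 hxI
    rw [smul_eq_mul, map_mul, h0, mul_zero]
  · rw [map_sub, map_one, mul_left_cancel₀ h0 (h2.trans (_root_.mul_one _).symm), sub_self]

theorem finite_cosets {G K : Over (Spec (CommRingCat.of k))} [GrpObj G] [GrpObj K] [IsAffine G.left] [Smooth G.hom]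
    (j : K ⟶ G) [IsMonHom j] [IsOpenImmersion j.left] : Finite ((VecGrp.pt k k ⟶ G) ⧸ ptsRange j) := by
  classical
  obtain ⟨e, -, -, he1, he0⟩ := exists_idem j
  letI := gAlg G
  obtain ⟨uG, hu⟩ := exists_univ_pt G
  haveI : Algebra.FiniteType k Γ(G.left, ⊤) := by
    have h1 : G.hom.appTop.hom.FiniteType := HasRingHomProperty.appTop (P := @LocallyOfFiniteType) G.hom inferInstance
    exact h1.comp (RingHom.FiniteType.of_surjective _
      (ConcreteCategory.bijective_of_isIso (Scheme.ΓSpecIso (CommRingCat.of k)).inv).surjective)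
  choose τ hτ using fun t => exists_leftTranslate G t
  have hτk : ∀ (t s : VecGrp.pt k k ⟶ G) x, algPt s (τ t x) = algPt (t * s) x := fun t s x => by
    rw [hτ t k s x, show VecGrp.ptMap (Algebra.ofId k k) ≫ t = t from pt_eq _ _ fun y => by rw [algPt_ptMap]; rfl]
  let fam : (VecGrp.pt k k ⟶ G) → Γ(G.left, ⊤) := fun t => τ t e
  have htop : Ideal.span (Set.range fam) = ⊤ := by
    by_contra hne
    obtain ⟨m, hm, hle⟩ := Ideal.exists_le_maximal _ hne
    obtain ⟨χ, hχ⟩ := exists_algHom_of_isMaximal (k := k) m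
    let t := VecGrp.ptMap χ ≫ uG
    have h1 := (hχ _).2 (hle (Ideal.subset_span ⟨t⁻¹, rfl⟩))
    rw [← hu (fam t⁻¹), ← algPt_ptMap χ, hτk, inv_mul_cancel, he1 1 (one_mem _)] at h1
    exact one_ne_zero h1
  obtain ⟨T, hTsub, hT⟩ := Submodule.mem_span_finite_of_mem_span
    (show (1 : Γ(G.left, ⊤)) ∈ Ideal.span (Set.range fam) from htop ▸ Submodule.mem_top)
  choose gT hgT using fun a => show ∃ t, a ∈ T → fam t = a from
    if ha : a ∈ T then (hTsub ha).imp fun t ht _ => ht else ⟨1, fun h => absurd h ha⟩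
  refine Finite.of_surjective (fun a : T => (QuotientGroup.mk (gT a)⁻¹ : (VecGrp.pt k k ⟶ G) ⧸ ptsRange j)) fun q => ?_
  obtain ⟨t, rfl⟩ := QuotientGroup.mk_surjective q
  obtain ⟨a, ha, hat⟩ : ∃ a ∈ T, algPt t a ≠ 0 := by
    by_contra hc
    push_neg at hc
    have h2 : algPt t (1 : Γ(G.left, ⊤)) = 0 :=
      RingHom.mem_ker.1 ((Submodule.span_le.2 fun a ha => RingHom.mem_ker.2 (hc a ha) :
        Submodule.span Γ(G.left, ⊤) (T : Set Γ(G.left, ⊤)) ≤ RingHom.ker (algPt t)) hT)
    rw [map_one] at h2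
    exact one_ne_zero h2
  refine ⟨⟨a, ha⟩, QuotientGroup.eq.2 ?_⟩
  rw [_root_.inv_inv]
  by_contra hne
  rw [← hgT a ha, hτk, he0 _ hne] at hat
  exact hat rfl

/-- The identity component is normal on rational points. -/
theorem conj_mem_ptsRange {G K : Over (Spec (CommRingCat.of k))} [GrpObj G] [GrpObj K] [IsAffine G.left] [Smooth G.hom]
    [ConnectedSpace K.left] (j : K ⟶ G) [IsMonHom j] [IsOpenImmersion j.left] (c : VecGrp.pt k k ⟶ G)
    {x : VecGrp.pt k k ⟶ G} (hx : x ∈ ptsRange j) : c * x * c⁻¹ ∈ ptsRange j := by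
  haveI : IsClosedImmersion j.left := S11194.isClosedImmersion_of_open j
  haveI : IsAffine K.left := isAffine_of_isAffineHom j.left
  obtain ⟨y, rfl⟩ := hx
  obtain ⟨e, he, -, he1, he0⟩ := exists_idem j
  letI := gAlg K
  obtain ⟨uK, hu⟩ := exists_univ_pt K
  let e' := algPt ((VecGrp.ptMap (Algebra.ofId k Γ(K.left, ⊤)) ≫ c) * (uK ≫ j) * (VecGrp.ptMap (Algebra.ofId k Γ(K.left, ⊤)) ≫ c)⁻¹) e
  have hpt : ∀ z : VecGrp.pt k k ⟶ K, algPt z e' = algPt (c * (z ≫ j) * c⁻¹) e := fun z => by
    obtain ⟨φ, hφ⟩ := exists_algHom z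
    rw [← hφ, ← algPt_ptMap φ, MonObj.comp_mul, MonObj.comp_mul, GrpObj.comp_inv,
      show VecGrp.ptMap φ ≫ VecGrp.ptMap (Algebra.ofId k Γ(K.left, ⊤)) ≫ c = c from pt_eq _ _ fun w => by
        rw [algPt_ptMap, algPt_ptMap]; exact φ.commutes _,
      ← Category.assoc, show VecGrp.ptMap φ ≫ uK = z from pt_eq _ _ fun w => by rw [algPt_ptMap, hu, hφ]]
  haveI : ConnectedSpace (PrimeSpectrum Γ(K.left, ⊤)) :=
    Function.Surjective.connectedSpace K.left.isoSpec.hom.surjective K.left.isoSpec.hom.continuous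
  have he' : IsIdempotentElem e' := he.map _
  show c * (y ≫ j) * c⁻¹ ∈ ptsRange j
  by_contra hne
  rcases CAlgH3.GeomBridge.isIdempotentElem_trivial_of_connected Γ(K.left, ⊤) he' with h | h
  · have h1 := hpt 1
    rw [h, map_zero, MonObj.one_comp, _root_.mul_one, mul_inv_cancel, he1 1 (one_mem _)] at h1
    exact zero_ne_one h1
  · have h1 := hpt y
    rw [h, map_one, he0 _ hne] at h1
    exact one_ne_zero h1

end Groth.Agent.AGF12

end
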