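import Groth.Agent.AGF12.Inverse
import Mathlib.LinearAlgebra.Matrix.SchurComplement

/-!
# Modules of an observable subgroup extend
-/

set_option autoImplicit false
set_option backward.isDefEq.respectTransparency false
set_option backward.isDefEq.respectTransparency.types false

universe u

open CategoryTheory MonoidalCategory CartesianMonoidalCategory MonObj GrpObj AlgebraicGeometry
open scoped TensorProduct
open Groth.Agent.CommAlg4.AffPt Groth.Agent

noncomputable section

namespace Groth.Agent.AGF12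

variable {k : Type u} [Field k]
variable {G H : Over (Spec (CommRingCat.of k))} [GrpObj G] [GrpObj H] {i : H ⟶ G}

namespace Frame

variable (F : Frame i)

/-- The columns of functions vanishing on `H`, and one more. -/
def cols (s : Fin F.d ⊕ Fin F.e) : Fin F.d ⊕ Unit → Fin F.d ⊕ Fin F.e := Sum.elim Sum.inl fun _ => s

/-- The minor with one more column. -/
def minor₂ (sel : Fin F.d ⊕ Unit → Fin F.d ⊕ Fin F.e) (s : Fin F.d ⊕ Fin F.e) : Γ(G.left, ⊤) :=
  (F.M.submatrix sel (F.cols s)).det

theorem minor₂_inl (sel : Fin F.d ⊕ Unit → Fin F.d ⊕ Fin F.e) (l : Fin F.d) : F.minor₂ sel (Sum.inl l) = 0 :=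
  Matrix.det_zero_of_column_eq (i := Sum.inl l) (j := Sum.inr ()) (by simp) fun a => rfl

theorem map_minor₂ {B : Type u} [CommRing B] (φ : Γ(G.left, ⊤) →+* B) (sel : Fin F.d ⊕ Unit → Fin F.d ⊕ Fin F.e)
    (s : Fin F.d ⊕ Fin F.e) : φ (F.minor₂ sel s) = ((F.M.map φ).submatrix sel (F.cols s)).det := by
  rw [minor₂, RingHom.map_det, RingHom.mapMatrix_apply, Matrix.submatrix_map]

theorem minor₂_mul {B : Type u} [CommRing B] [Algebra k B] (t g : VecGrp.pt k B ⟶ G)
    (hg : ∀ (r : Fin F.e) (l : Fin F.d), algPt g (F.M (Sum.inr r) (Sum.inl l)) = 0)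
    (sel : Fin F.d ⊕ Unit → Fin F.d ⊕ Fin F.e) (s : Fin F.d ⊕ Fin F.e) :
    algPt (t * g) (F.minor₂ sel s) =
      algPt g (F.minor Sum.inl) * ∑ r, algPt g (F.M r s) * algPt t (F.minor₂ sel r) := by
  classical
  let Mt := F.M.map (algPt t)
  let Mg := F.M.map (algPt g)
  let X := (Mt * Mg).submatrix sel (F.cols s)
  let col : Fin F.d ⊕ Fin F.e → Fin F.d ⊕ Unit → B := fun r a => Mt (sel a) r
  have h1 : (∑ r, Mg r s • col r) = fun a => X a (Sum.inr ()) := by
    funext a
    simp [X, col, cols, Matrix.mul_apply, mul_comm]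
  have h2 : ∀ r, (X.updateCol (Sum.inr ()) (col r)).det =
      algPt g (F.minor Sum.inl) * algPt t (F.minor₂ sel r) := by
    intro r
    have hX : X.updateCol (Sum.inr ()) (col r) = Mt.submatrix sel (F.cols r) *
        Matrix.fromBlocks (Mg.submatrix Sum.inl Sum.inl) 0 0 (1 : Matrix Unit Unit B) := by
      ext a b
      rcases b with b | b
      · simp [X, cols, Mt, Mg, Matrix.mul_apply, Matrix.updateCol_apply, Fintype.sum_sum_type, hg]
      · simp [col, cols, Matrix.mul_apply, Fintype.sum_sum_type]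
    rw [hX, Matrix.det_mul, Matrix.det_fromBlocks_zero₁₂, Matrix.det_one, _root_.mul_one, map_minor₂, map_minor]
    exact mul_comm _ _
  have hX0 : algPt (t * g) (F.minor₂ sel s) = X.det := by rw [map_minor₂, F.mat_mul]
  have hX1 : X.det = Matrix.cramer X (∑ r, Mg r s • col r) (Sum.inr ()) := by
    rw [h1, Matrix.cramer_apply]
    congr 1
    ext a b
    rcases b with b | b <;> simp [Matrix.updateCol_apply]
  rw [hX0, hX1, map_sum, Finset.sum_apply, Finset.mul_sum]
  refine Finset.sum_congr rfl fun r _ => ?_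
  rw [map_smul, Pi.smul_apply, Matrix.cramer_apply, h2, smul_eq_mul]
  show algPt g (F.M r s) * _ = _
  ring

theorem minor₂_one {B : Type u} [CommRing B] [Algebra k B] (r r' : Fin F.e) :
    algPt (1 : VecGrp.pt k B ⟶ G) (F.minor₂ (F.cols (Sum.inr r)) (Sum.inr r')) = if r = r' then 1 else 0 := by
  classical
  rw [map_minor₂, F.mat_one]
  by_cases h : r = r'
  · subst h
    rw [if_pos rfl, Matrix.submatrix_one, Matrix.det_one]
    rintro (a | a) (b | b) <;> simp [cols]
  · rw [if_neg h]
    refine Matrix.det_eq_zero_of_row_eq_zero (Sum.inr ()) ?_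
    rintro (b | b) <;> simp [cols, h]

end Frame

variable [IsMonHom i]

/-- A module of a subgroup all of whose characters can be inverted extends. -/
theorem extendsAlong_of_inverse [IsAffine G.left] [Smooth G.hom] [IsClosedImmersion i.left]
    (hinv : ∀ (f : Γ(G.left, ⊤)) (c : Γ(H.left, ⊤)), Semi i f c → algPt (1 : VecGrp.pt k k ⟶ G) f = 1 →
      ∃ (f' : Γ(G.left, ⊤)) (c' : Γ(H.left, ⊤)), c' * c = 1 ∧ Semi i f' c' ∧ algPt (1 : VecGrp.pt k k ⟶ G) f' = 1)
    {V : Type u} [AddCommGroup V] [Module k V] [Module.Finite k V] (σ : VecGrp.GMod H V) : σ.ExtendsAlong i := by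
  classical
  haveI : IsAffine H.left := isAffine_of_isAffineHom i.left
  letI := gAlg G
  letI := gAlg H
  let b := Module.finBasis k V
  choose Fc hFc using fun p => exists_coeff H V σ (b p)
  let m : Fin (Module.finrank k V) → Fin (Module.finrank k V) → Γ(H.left, ⊤) := fun q p => Fc p (b.coord q)
  have hm : ∀ (B : Type u) [CommRing B] [Algebra k B] (h : VecGrp.pt k B ⟶ H) (p : Fin (Module.finrank k V)),
      σ.ρ B h ((1 : B) ⊗ₜ[k] b p) = ∑ q, algPt h (m q p) • ((1 : B) ⊗ₜ[k] b q) := by
    intro B _ _ h p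
    have key : ∀ z : B ⊗[k] V, z = ∑ q, TensorProduct.rid k B ((b.coord q).lTensor B z) • ((1 : B) ⊗ₜ[k] b q) := by
      intro z
      induction z using TensorProduct.induction_on with
      | zero => simp
      | tmul a x =>
        simp only [LinearMap.lTensor_tmul, TensorProduct.rid_tmul, Module.Basis.coord_apply, TensorProduct.smul_tmul',
          smul_eq_mul, _root_.mul_one]
        conv_lhs => rw [← b.sum_repr x]
        simp only [TensorProduct.tmul_sum, TensorProduct.tmul_smul]
        rfl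
      | add x y hx hy =>
        simp only [map_add, add_smul, Finset.sum_add_distrib]
        rw [← hx, ← hy]
    refine (key _).trans (Finset.sum_congr rfl fun q _ => ?_)
    rw [show algPt h (m q p) = _ from hFc p B h (b.coord q)]
  have hm1 : ∀ (B : Type u) [CommRing B] [Algebra k B] (q p : Fin (Module.finrank k V)),
      algPt (1 : VecGrp.pt k B ⟶ H) (m q p) = if q = p then 1 else 0 := by
    intro B _ _ q p
    rw [show algPt (1 : VecGrp.pt k B ⟶ H) (m q p) = _ from hFc p B 1 (b.coord q), map_one]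
    show TensorProduct.rid k B ((b.coord q).lTensor B ((1 : B) ⊗ₜ[k] b p)) = _
    rw [LinearMap.lTensor_tmul, TensorProduct.rid_tmul, Module.Basis.coord_apply, Module.Basis.repr_self,
      Finsupp.single_apply]
    by_cases h : q = p
    · simp [h]
    · simp [h, Ne.symm h]
  have hmmul : ∀ (B : Type u) [CommRing B] [Algebra k B] (h h' : VecGrp.pt k B ⟶ H) (q p : Fin (Module.finrank k V)),
      algPt (h * h') (m q p) = ∑ l, algPt h (m q l) * algPt h' (m l p) := by
    intro B _ _ h h' q p
    rw [show algPt (h * h') (m q p) = _ from hFc p B (h * h') (b.coord q), map_mul, LinearEquiv.mul_apply, hm B h' p,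
      map_sum, map_sum, map_sum]
    refine Finset.sum_congr rfl fun l _ => ?_
    rw [map_smul, S11234.rid_lTensor_smul, ← hFc l B h (b.coord q), mul_comm]
  have hsurj : Function.Surjective i.left.appTop := fun y => Scheme.Hom.app_surjective i.left ⊤ (isAffineOpen_top _) y
  choose L hL using fun qp : Fin (Module.finrank k V) × Fin (Module.finrank k V) => hsurj (m qp.1 qp.2)
  obtain ⟨F, hF, -⟩ := exists_frame (i := i) (Finset.univ.image L)
  choose a ha using fun qp => hF (L qp) (Finset.mem_image_of_mem L (Finset.mem_univ qp))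
  obtain ⟨w, c', hc', hw, hw1⟩ := hinv _ _ (F.semi_minor Sum.inl) F.minor_one_inl
  let Φ : (Fin F.d ⊕ Unit → Fin F.d ⊕ Fin F.e) → Fin F.d ⊕ Fin F.e → Γ(G.left, ⊤) := fun sel s => F.minor₂ sel s * w
  have hΦ : ∀ (B : Type u) [CommRing B] [Algebra k B] (t : VecGrp.pt k B ⟶ G) (h : VecGrp.pt k B ⟶ H) sel s,
      algPt (t * (h ≫ i)) (Φ sel s) = ∑ r, algPt (h ≫ i) (F.M r s) * algPt t (Φ sel r) := by
    intro B _ _ t h sel s
    simp only [Φ, map_mul]
    rw [F.minor₂_mul t (h ≫ i) (fun r l => F.corner B h r l), hw B t h]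
    have h1 : algPt (h ≫ i) (F.minor Sum.inl) * algPt h c' = 1 := by
      rw [algPt_comp, show i.left.appTop (F.minor Sum.inl) = F.wt from rfl, ← map_mul, mul_comm, hc', map_one]
    calc algPt (h ≫ i) (F.minor Sum.inl) * (∑ r, algPt (h ≫ i) (F.M r s) * algPt t (F.minor₂ sel r)) *
          (algPt t w * algPt h c')
        = (algPt (h ≫ i) (F.minor Sum.inl) * algPt h c') *
            ((∑ r, algPt (h ≫ i) (F.M r s) * algPt t (F.minor₂ sel r)) * algPt t w) := by ring
      _ = _ := by
        rw [h1, _root_.one_mul, Finset.sum_mul]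
        exact Finset.sum_congr rfl fun r _ => _root_.mul_assoc _ _ _
  let ev := algebraMap k Γ(G.left, ⊤)
  -- the coordinates of the embedding
  let J := Fin (Module.finrank k V) × (Fin F.d ⊕ Unit → Fin F.d ⊕ Fin F.e)
  let eJ : Fin (Fintype.card J) ≃ J := (Fintype.equivFin J).symm
  let φ₀ : Fin (Module.finrank k V) → J → Γ(G.left, ⊤) := fun p x => ∑ s, ev (a (x.1, p) s) * Φ x.2 s
  have hcoef : ∀ (B : Type u) [CommRing B] [Algebra k B] (h : VecGrp.pt k B ⟶ H) (q p : Fin (Module.finrank k V))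
      (r : Fin F.e), ∑ s, algebraMap k B (a (q, p) s) * algPt (h ≫ i) (F.M (Sum.inr r) s) =
        ∑ l, algPt h (m l p) * algebraMap k B (a (q, l) (Sum.inr r)) := by
    intro B _ _ h q p
    obtain ⟨uH, hu⟩ := exists_univ_pt H
    let R' : VecGrp.pt k (B ⊗[k] Γ(H.left, ⊤)) ⟶ H :=
      VecGrp.ptMap (Algebra.TensorProduct.includeRight : Γ(H.left, ⊤) →ₐ[k] B ⊗[k] Γ(H.left, ⊤)) ≫ uH
    let L' : VecGrp.pt k (B ⊗[k] Γ(H.left, ⊤)) ⟶ H :=
      VecGrp.ptMap (Algebra.TensorProduct.includeLeft : B →ₐ[k] B ⊗[k] Γ(H.left, ⊤)) ≫ h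
    have hR : ∀ x : Γ(H.left, ⊤), algPt R' x = (1 : B) ⊗ₜ[k] x := fun x => by rw [algPt_ptMap, hu]; rfl
    have hL' : ∀ x : Γ(H.left, ⊤), algPt L' x = algPt h x ⊗ₜ[k] (1 : Γ(H.left, ⊤)) := fun x => by rw [algPt_ptMap]; rfl
    have hL'' : ∀ x : Γ(G.left, ⊤), algPt (L' ≫ i) x = algPt (h ≫ i) x ⊗ₜ[k] (1 : Γ(H.left, ⊤)) := fun x => by
      rw [algPt_comp, hL', ← algPt_comp]
    let y : Fin F.e → Γ(H.left, ⊤) := fun r => i.left.appTop (F.β (Sum.inr r))
    have hy : LinearIndependent k y := Fintype.linearIndependent_iff.2 fun c hc r => congrFun (F.beta_inr c (by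
      rw [← hc]
      refine Finset.sum_congr rfl fun r _ => ?_
      rw [Algebra.smul_def]
      rfl)) r
    -- two expansions of `m q p (x h)`
    have hA : algPt (R' * L') (m q p) = ∑ r, ((∑ s, algebraMap k B (a (q, p) s) * algPt (h ≫ i) (F.M (Sum.inr r) s)) • ((1 : B) ⊗ₜ[k] y r)) := by
      rw [← hL (q, p), ← algPt_comp, MonObj.mul_comp, ha (q, p), map_sum]
      have hev0 : ∀ c : k, algPt ((R' ≫ i) * (L' ≫ i)) (G.hom.appTop ((Scheme.ΓSpecIso (CommRingCat.of k)).inv c)) =
          algebraMap k B c ⊗ₜ[k] (1 : Γ(H.left, ⊤)) := fun c => (algPt_appTop_hom _ c).trans rfl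
      simp only [map_mul, hev0, F.expand, Fintype.sum_sum_type (f := fun r => algPt (R' ≫ i) (F.β r) * _)]
      simp only [algPt_comp R' i, hR, F.beta_inl, TensorProduct.tmul_zero, zero_mul, Finset.sum_const_zero, zero_add,
        Finset.mul_sum, hL'']
      rw [Finset.sum_comm]
      refine Finset.sum_congr rfl fun r _ => ?_
      rw [Finset.sum_smul]
      refine Finset.sum_congr rfl fun s _ => ?_
      simp [y, TensorProduct.smul_tmul', Algebra.TensorProduct.algebraMap_apply]
    have hB : algPt (R' * L') (m q p) = ∑ r, ((∑ l, algPt h (m l p) * algebraMap k B (a (q, l) (Sum.inr r))) • ((1 : B) ⊗ₜ[k] y r)) := by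
      rw [hmmul]
      simp only [hR, hL', Finset.sum_smul]
      rw [Finset.sum_comm]
      refine Finset.sum_congr rfl fun l _ => ?_
      have h2 : m q l = ∑ r, a (q, l) (Sum.inr r) • y r := by
        rw [← hL (q, l), ha (q, l), map_sum, Fintype.sum_sum_type]
        simp only [map_mul, F.beta_inl, mul_zero, Finset.sum_const_zero, zero_add]
        refine Finset.sum_congr rfl fun r _ => ?_
        rw [Algebra.smul_def]
        congr 1
        exact (congrArg (fun f : (Spec (CommRingCat.of k)).presheaf.obj _ ⟶ _ => f ((Scheme.ΓSpecIso (CommRingCat.of k)).inv (a (q, l) (Sum.inr r))))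
          (by rw [← Scheme.Hom.comp_appTop, Over.w i] : G.hom.appTop ≫ i.left.appTop = H.hom.appTop))
      rw [h2, TensorProduct.tmul_sum, Finset.sum_mul]
      refine Finset.sum_congr rfl fun r _ => ?_
      rw [TensorProduct.tmul_smul, TensorProduct.smul_tmul', TensorProduct.smul_tmul', smul_eq_mul, Algebra.TensorProduct.tmul_mul_tmul,
        Algebra.smul_def, _root_.mul_one, _root_.mul_one, _root_.mul_one, mul_comm]
    have h3 := coeff_eq_zero y hy (fun r => (∑ s, algebraMap k B (a (q, p) s) * algPt (h ≫ i) (F.M (Sum.inr r) s)) -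
      ∑ l, algPt h (m l p) * algebraMap k B (a (q, l) (Sum.inr r))) (by
      simp only [sub_smul, Finset.sum_sub_distrib]
      rw [← hA, ← hB, sub_self])
    intro r
    exact sub_eq_zero.1 (congrFun h3 r)
  have hφ₀ : ∀ (B : Type u) [CommRing B] [Algebra k B] (t : VecGrp.pt k B ⟶ G) (h : VecGrp.pt k B ⟶ H) p x,
      algPt (t * (h ≫ i)) (φ₀ p x) = ∑ l, algPt h (m l p) * algPt t (φ₀ l x) := by
    intro B _ _ t h p x
    obtain ⟨q, sel⟩ := x
    have hev : ∀ (z : VecGrp.pt k B ⟶ G) (c : k), algPt z (ev c) = algebraMap k B c := fun z c => algPt_appTop_hom z c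
    have hz : ∀ (z : VecGrp.pt k B ⟶ G) (l : Fin F.d), algPt z (Φ sel (Sum.inl l)) = 0 := fun z l => by
      simp [Φ, F.minor₂_inl]
    simp only [φ₀, map_sum, map_mul, hev, hΦ, Fintype.sum_sum_type (f := fun r => algPt (h ≫ i) (F.M r _) * algPt t (Φ sel r)),
      hz, mul_zero, Finset.sum_const_zero, zero_add, Finset.mul_sum]
    rw [Finset.sum_comm]
    calc (∑ r, ∑ s, algebraMap k B (a (q, p) s) * (algPt (h ≫ i) (F.M (Sum.inr r) s) * algPt t (Φ sel (Sum.inr r))))
        = ∑ r, (∑ l, algPt h (m l p) * algebraMap k B (a (q, l) (Sum.inr r))) * algPt t (Φ sel (Sum.inr r)) := by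
          refine Finset.sum_congr rfl fun r _ => ?_
          rw [← hcoef, Finset.sum_mul]
          exact Finset.sum_congr rfl fun s _ => (_root_.mul_assoc _ _ _).symm
      _ = _ := by
          simp only [Finset.sum_mul]
          rw [Finset.sum_comm]
          refine Finset.sum_congr rfl fun l _ => ?_
          simp only [Fintype.sum_sum_type, hz, mul_zero, Finset.sum_const_zero, zero_add, _root_.mul_assoc]
  obtain ⟨uG, ρreg, hu, hρ⟩ := S11234.exists_regular G
  obtain ⟨ρP, hρP⟩ := S11188.exists_pi_rep ρreg (Fintype.card J)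
  let φ : V →ₗ[k] (Fin (Fintype.card J) → Γ(G.left, ⊤)) := b.constr k fun p j => φ₀ p (eJ j)
  have hφb : ∀ p, φ (b p) = fun j => φ₀ p (eJ j) := fun p => b.constr_basis k _ p
  obtain ⟨N, hφN, hN, hst⟩ := Groth.Agent.CommAlg4.GModStab.exists_stable_of_noetherian ρP (LinearMap.range φ)
    (by rw [← Submodule.map_top]; exact (Module.Finite.fg_top (R := k) (M := V)).map φ)
  haveI : Module.Finite k N := Module.Finite.iff_fg.2 hN
  obtain ⟨ρN, hρN⟩ := S11188.exists_restrict_rep ρP N hst
  have hφinj : Function.Injective φ := by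
    rw [← LinearMap.ker_eq_bot, Submodule.eq_bot_iff]
    intro v hv
    rw [← b.sum_repr v] at hv
    rw [LinearMap.mem_ker, map_sum] at hv
    simp only [map_smul, hφb] at hv
    refine b.forall_coord_eq_zero_iff.1 fun q => ?_
    -- evaluate at the identity
    have hev : ∀ c : k, algPt (1 : VecGrp.pt k k ⟶ G) (algebraMap k Γ(G.left, ⊤) c) = c := fun c => algPt_appTop_hom _ c
    have hval : ∀ (r : Fin F.e) p, algPt (1 : VecGrp.pt k k ⟶ G) (φ₀ p (q, F.cols (Sum.inr r))) = a (q, p) (Sum.inr r) := fun r p => by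
      simp only [φ₀, Φ, ev, map_sum, map_mul, hev, Fintype.sum_sum_type, F.minor₂_inl, F.minor₂_one, hw1, map_zero, zero_mul,
        mul_zero, Finset.sum_const_zero, zero_add, _root_.mul_one]
      simp
    have h1 : ∀ r : Fin F.e, ∑ p, b.repr v p * a (q, p) (Sum.inr r) = 0 := fun r => by
      have h2 := congrArg (algPt (1 : VecGrp.pt k k ⟶ G)) (congrFun hv (eJ.symm (q, F.cols (Sum.inr r))))
      simp only [Finset.sum_apply, Pi.smul_apply, Algebra.smul_def, Equiv.apply_symm_apply, Pi.zero_apply] at h2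
      rw [map_sum, map_zero] at h2
      rw [← h2]
      refine Finset.sum_congr rfl fun p _ => ?_
      simp only [Pi.mul_apply, Pi.algebraMap_apply, Equiv.apply_symm_apply, map_mul]
      rw [hev, hval]
    have h3 : ∑ p, b.repr v p • m q p = 0 := by
      have hm' : ∀ p, m q p = ∑ r, a (q, p) (Sum.inr r) • i.left.appTop (F.β (Sum.inr r)) := fun p => by
        rw [← hL (q, p), ha (q, p), map_sum, Fintype.sum_sum_type]
        simp only [map_mul, F.beta_inl, mul_zero, Finset.sum_const_zero, zero_add]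
        refine Finset.sum_congr rfl fun r _ => ?_
        rw [Algebra.smul_def]
        congr 1
        exact (congrArg (fun f : (Spec (CommRingCat.of k)).presheaf.obj _ ⟶ _ => f ((Scheme.ΓSpecIso (CommRingCat.of k)).inv (a (q, p) (Sum.inr r))))
          (by rw [← Scheme.Hom.comp_appTop, Over.w i] : G.hom.appTop ≫ i.left.appTop = H.hom.appTop))
      simp only [hm', Finset.smul_sum, smul_smul]
      rw [Finset.sum_comm]
      simp only [← Finset.sum_smul, h1, zero_smul, Finset.sum_const_zero]
    have h4 := congrArg (algPt (1 : VecGrp.pt k k ⟶ H)) h3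
    simp only [map_sum, Algebra.smul_def, map_mul, map_zero] at h4
    have hev : ∀ c : k, algPt (1 : VecGrp.pt k k ⟶ H) (algebraMap k Γ(H.left, ⊤) c) = c := fun c => algPt_appTop_hom _ c
    simpa [hev, hm1] using h4
  refine ⟨N, inferInstance, inferInstance, inferInstance, ρN, φ.codRestrict N (fun v => hφN ⟨v, rfl⟩),
    fun x y h => hφinj (congrArg Subtype.val h), fun B _ _ h x => ?_⟩
  apply Module.Flat.lTensor_preserves_injective_linearMap (M := B) N.subtype (Submodule.injective_subtype N)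
  show N.subtype.baseChange B _ = N.subtype.baseChange B _
  rw [hρN]
  have hcomp : ∀ z : B ⊗[k] V, N.subtype.baseChange B ((φ.codRestrict N (fun v => hφN ⟨v, rfl⟩)).baseChange B z) = φ.baseChange B z := fun z => by
    induction z using TensorProduct.induction_on with
    | zero => simp
    | tmul c v => simp
    | add p q hp hq => simp only [map_add, hp, hq]
  rw [hcomp, hcomp]
  have hlin : (φ.baseChange B) ∘ₗ (σ.ρ B h).toLinearMap = (ρP.ρ B (h ≫ i)).toLinearMap ∘ₗ φ.baseChange B := by
    refine (Algebra.TensorProduct.basis B b).ext fun p => ?_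
    rw [Algebra.TensorProduct.basis_apply]
    apply (TensorProduct.piRight k B B (fun _ : Fin (Fintype.card J) => Γ(G.left, ⊤))).injective
    funext j
    show TensorProduct.piRight k B B (fun _ : Fin (Fintype.card J) => Γ(G.left, ⊤)) (φ.baseChange B (σ.ρ B h ((1 : B) ⊗ₜ[k] b p))) j =
      TensorProduct.piRight k B B (fun _ : Fin (Fintype.card J) => Γ(G.left, ⊤)) (ρP.ρ B (h ≫ i) (φ.baseChange B ((1 : B) ⊗ₜ[k] b p))) j
    rw [hm, hρP, map_sum, map_sum, Finset.sum_apply]
    simp only [map_smul, LinearMap.baseChange_tmul, hφb, TensorProduct.piRight_apply, TensorProduct.piRightHom_tmul,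
      Pi.smul_apply]
    rw [hρ, ← Category.assoc, hφ₀]
    refine Finset.sum_congr rfl fun l _ => ?_
    rw [algPt_ptMap, algPt_ptMap, hu, TensorProduct.smul_tmul']
    simp
  exact LinearMap.congr_fun hlin x

end Groth.Agent.AGF12

end
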