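import Groth.Agent.AGF12.Minors
import Groth.Agent.AlgGrpLib.OrbitLC
import Groth.Agent.H8Top.Noetherian

/-!
# Characters of an observable subgroup can be inverted
-/

set_option autoImplicit false
set_option backward.isDefEq.respectTransparency false
set_option backward.isDefEq.respectTransparency.types false

universe u

open CategoryTheory MonoidalCategory CartesianMonoidalCategory MonObj GrpObj AlgebraicGeometry
open scoped TensorProduct
open Groth.Agent.CommAlg4.AffPt Groth.Agent

noncomputable section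

namespace Groth.Agent.AGF12

section Top

/-- A constructible set disjoint from a dense constructible set is nowhere dense. -/
theorem interior_closure_eq_empty {X : Type*} [TopologicalSpace X] {S T : Set X}
    (hS : Topology.IsConstructible S) (hT : Topology.IsConstructible T) (hd : Dense S) (hST : Disjoint S T) :
    interior (closure T) = ∅ := by
  by_contra hne
  obtain ⟨x, hx⟩ := Set.nonempty_iff_ne_empty.2 hne
  set V := interior (closure T)
  obtain ⟨n, L, hL, hLT⟩ := H8Top.IsFinUnionLC.of_isConstructible hT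
  have hne' : (V ∩ T).Nonempty := by
    obtain ⟨y, hy1, hy2⟩ := mem_closure_iff.1 (interior_subset hx) V isOpen_interior hx
    exact ⟨y, hy1, hy2⟩
  have hsub : (⋃ j, V ∩ L j) = V ∩ T := by rw [← Set.inter_iUnion, ← hLT]
  obtain ⟨U, hU, hUne, hUsub⟩ := AlgGrpLib.OrbitLC.exists_open_inter_closure_subset n (fun j => V ∩ L j)
    (fun j => isOpen_interior.isLocallyClosed.inter (hL j)) (by rw [hsub]; exact hne')
  rw [hsub] at hUne hUsub
  obtain ⟨y, hyU, hy⟩ := hUne
  obtain ⟨z, hzU, hzV, -⟩ := mem_closure_iff.1 hy U hU hyU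
  have hopen : IsOpen (U ∩ V) := hU.inter isOpen_interior
  obtain ⟨w, hw, hwS⟩ := hd.inter_open_nonempty (U ∩ V) hopen ⟨z, hzU, hzV⟩
  have hwc : w ∈ closure (V ∩ T) :=
    isOpen_interior.inter_closure ⟨hw.2, interior_subset hw.2⟩
  exact Set.disjoint_left.1 hST hwS (hUsub ⟨hw.1, hwc⟩).2

theorem interior_iUnion_eq_empty {X : Type*} [TopologicalSpace X] {J : Type*} (s : Finset J) (C : J → Set X)
    (hC : ∀ j, IsClosed (C j)) (h : ∀ j, interior (C j) = ∅) : interior (⋃ j ∈ s, C j) = ∅ := by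
  classical
  induction s using Finset.induction with
  | empty => simp
  | insert a s ha ih =>
    rw [Finset.set_biUnion_insert, interior_union_isClosed_of_interior_empty (hC a) ih]
    exact h a

/-- A nonempty constructible subset of a Jacobson space contains a closed point. -/
theorem exists_closedPoint_mem {X : Type*} [TopologicalSpace X] [JacobsonSpace X] {S : Set X}
    (hS : Topology.IsConstructible S) (hne : S.Nonempty) : ∃ x ∈ S, IsClosed ({x} : Set X) := by
  obtain ⟨n, L, hL, hLS⟩ := H8Top.IsFinUnionLC.of_isConstructible hS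
  obtain ⟨x, hx⟩ := hne
  rw [hLS] at hx
  obtain ⟨j, hj⟩ := Set.mem_iUnion.1 hx
  obtain ⟨y, hy1, hy2⟩ : (L j ∩ closedPoints X).Nonempty := by
    rw [← closure_nonempty_iff, JacobsonSpace.closure_inter_closedPoints_eq_closure (hL j)]
    exact ⟨x, subset_closure hj⟩
  exact ⟨y, hLS ▸ Set.mem_iUnion.2 ⟨j, hy1⟩, hy2⟩

end Top

section Alg

variable {k : Type u} [Field k] [IsAlgClosed k] {A : Type u} [CommRing A] [Algebra k A] [Algebra.FiniteType k A]

theorem exists_algHom_of_isMaximal (m : Ideal A) [m.IsMaximal] : ∃ χ : A →ₐ[k] k, ∀ x, χ x = 0 ↔ x ∈ m := by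
  haveI : IsJacobsonRing A := isJacobsonRing_of_finiteType (A := k)
  letI : Field (A ⧸ m) := Ideal.Quotient.field m
  haveI : Algebra.FiniteType k (A ⧸ m) := Algebra.FiniteType.of_surjective (Ideal.Quotient.mkₐ k m) Ideal.Quotient.mk_surjective
  haveI : Module.Finite k (A ⧸ m) := finite_of_finite_type_of_isJacobsonRing k _
  let e : k ≃ₐ[k] A ⧸ m := AlgEquiv.ofBijective (Algebra.ofId k _) IsAlgClosed.algebraMap_bijective_of_isIntegral
  refine ⟨e.symm.toAlgHom.comp (Ideal.Quotient.mkₐ k m), fun x => ?_⟩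
  show e.symm (Ideal.Quotient.mk m x) = 0 ↔ _
  rw [map_eq_zero_iff _ e.symm.injective, Ideal.Quotient.eq_zero_iff_mem]

end Alg

variable {k : Type u} [Field k]
variable {G H : Over (Spec (CommRingCat.of k))} [GrpObj G] [GrpObj H] {i : H ⟶ G}

/-- Semi-invariance can be tested on rational points. -/
theorem semi_of_pts [IsAlgClosed k] [IsAffine G.left] [Smooth G.hom] [IsAffine H.left] [Smooth H.hom]
    {f : Γ(G.left, ⊤)} {c : Γ(H.left, ⊤)}
    (hf : ∀ (t : VecGrp.pt k k ⟶ G) (h : VecGrp.pt k k ⟶ H), algPt (t * (h ≫ i)) f = algPt t f * algPt h c) :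
    Semi i f c := by
  haveI : IsAffine (G ⊗ H).left := by rw [Over.tensorObj_left]; infer_instance
  haveI : Smooth (G ⊗ H).hom := by
    rw [Over.tensorObj_hom]
    haveI : Smooth (Limits.pullback.fst G.hom H.hom) :=
      MorphismProperty.pullback_fst (P := @Smooth) _ _ inferInstance
    infer_instance
  haveI : IsReduced (G ⊗ H).left := WeilLib.isReduced_of_smooth (G ⊗ H).hom
  letI := gAlg (G ⊗ H)
  obtain ⟨uP, hu⟩ := exists_univ_pt (G ⊗ H)
  let z := algPt ((uP ≫ fst G H) * ((uP ≫ snd G H) ≫ i)) f - algPt (uP ≫ fst G H) f * algPt (uP ≫ snd G H) c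
  have hz : z = 0 := by
    refine S11188.eq_zero_of_pts (G ⊗ H) _ fun t => ?_
    obtain ⟨φ, hφ⟩ := exists_algHom t
    rw [← hφ]
    simp only [z, map_sub, map_mul, ← algPt_ptMap φ, MonObj.comp_mul]
    rw [show VecGrp.ptMap φ ≫ (uP ≫ snd G H) ≫ i = (VecGrp.ptMap φ ≫ uP ≫ snd G H) ≫ i by simp only [Category.assoc], hf,
      sub_self]
  intro B _ _ t h
  obtain ⟨φ, hφ⟩ := exists_algHom (lift t h)
  have hp : VecGrp.ptMap φ ≫ uP = lift t h := pt_eq _ _ fun x => by rw [algPt_ptMap, hu, hφ]
  have h1 := congrArg φ hz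
  simp only [z, map_sub, map_mul, map_zero, ← algPt_ptMap φ, MonObj.comp_mul] at h1
  simp only [← Category.assoc, hp, lift_fst, lift_snd] at h1
  exact sub_eq_zero.1 h1

/-- Characters of semi-invariants of an observable subgroup can be inverted. -/
theorem exists_inverse [IsAlgClosed k] [IsMonHom i] [IsAffine G.left] [Smooth G.hom] [IsClosedImmersion i.left]
    [Smooth H.hom] (hobs : AGF.IsObservableIn k i) {f : Γ(G.left, ⊤)} {c : Γ(H.left, ⊤)} (hf : Semi i f c)
    (hf1 : algPt (1 : VecGrp.pt k k ⟶ G) f = 1) :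
    ∃ (f' : Γ(G.left, ⊤)) (c' : Γ(H.left, ⊤)), c' * c = 1 ∧ Semi i f' c' ∧
      algPt (1 : VecGrp.pt k k ⟶ G) f' = 1 := by
  classical
  haveI : IsAffine H.left := isAffine_of_isAffineHom i.left
  haveI : IsReduced G.left := WeilLib.isReduced_of_smooth G.hom
  obtain ⟨cu, rfl⟩ := hf.isUnit hf1
  obtain ⟨s, hs, hsep⟩ := ((S11188.result k G H i).out 0 2 rfl rfl).1 hobs
  letI := gAlg G
  obtain ⟨uG, hu⟩ := exists_univ_pt G
  haveI hAft : Algebra.FiniteType k Γ(G.left, ⊤) := by
    have h1 : G.hom.appTop.hom.FiniteType := HasRingHomProperty.appTop (P := @LocallyOfFiniteType) G.hom inferInstance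
    exact h1.comp (RingHom.FiniteType.of_surjective _
      (ConcreteCategory.bijective_of_isIso (Scheme.ΓSpecIso (CommRingCat.of k)).inv).surjective)
  let C0 : Subalgebra k Γ(G.left, ⊤) := Algebra.adjoin k (s : Set Γ(G.left, ⊤))
  haveI : Algebra.FiniteType k C0 := (Subalgebra.fg_iff_finiteType C0).1 ⟨s, rfl⟩
  haveI : IsNoetherianRing C0 := Algebra.FiniteType.isNoetherianRing k C0
  haveI : IsJacobsonRing C0 := isJacobsonRing_of_finiteType (A := k)
  haveI : IsJacobsonRing Γ(G.left, ⊤) := isJacobsonRing_of_finiteType (A := k)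
  haveI : IsNoetherianRing Γ(G.left, ⊤) := Algebra.FiniteType.isNoetherianRing k _
  have hCinv : ∀ P ∈ C0, Semi i P 1 := by
    intro P hP
    induction hP using Algebra.adjoin_induction with
    | mem x hx => exact semi_of_invariant i x (hs x hx)
    | algebraMap r => intro B _ _ t h; rw [map_one, _root_.mul_one]; exact (algPt_appTop_hom _ r).trans (algPt_appTop_hom t r).symm
    | add x y _ _ hx hy => intro B _ _ t h; rw [map_one, _root_.mul_one, map_add, map_add, hx B t h, hy B t h, map_one, _root_.mul_one, _root_.mul_one]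
    | mul x y _ _ hx hy => simpa using hx.mul hy
  choose τ hτ using fun g => exists_leftTranslate G g
  let fg : (VecGrp.pt k k ⟶ G) → Γ(G.left, ⊤) := fun g => τ g f
  have hτk : ∀ (g t : VecGrp.pt k k ⟶ G) (x : Γ(G.left, ⊤)), algPt t (τ g x) = algPt (g * t) x := fun g t x => by
    rw [hτ g k t x, show VecGrp.ptMap (Algebra.ofId k k) ≫ g = g from pt_eq _ _ fun y => by rw [algPt_ptMap]; rfl]
  obtain ⟨g, P, hPC, hP0, N, w, hPw⟩ : ∃ (g : VecGrp.pt k k ⟶ G) (P : Γ(G.left, ⊤)), P ∈ C0 ∧ P ≠ 0 ∧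
      ∃ (N : ℕ) (w : Γ(G.left, ⊤)), P ^ N = fg g * w := by
    by_contra hcon
    push_neg at hcon
    let j : C0 →+* Γ(G.left, ⊤) := C0.val.toRingHom
    have hjfp : j.FinitePresentation := RingHom.FinitePresentation.of_finiteType.1 (by
      have h1 : ((C0.val).toRingHom.comp (algebraMap k C0)).FiniteType := by
        rw [show (C0.val).toRingHom.comp (algebraMap k C0) = algebraMap k Γ(G.left, ⊤) from C0.val.comp_algebraMap]
        exact RingHom.finiteType_algebraMap.2 hAft
      exact RingHom.FiniteType.of_comp_finiteType h1)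
    -- images of zero loci are dense
    have hdense : ∀ g, Dense (PrimeSpectrum.comap j '' PrimeSpectrum.zeroLocus ((Ideal.span {fg g}) : Set Γ(G.left, ⊤))) := by
      intro g
      rw [dense_iff_closure_eq, PrimeSpectrum.closure_image_comap_zeroLocus, PrimeSpectrum.zeroLocus_eq_univ_iff]
      intro P hP
      obtain ⟨N, hN⟩ : ∃ N, j P ^ N ∈ Ideal.span {fg g} := ⟨1, by simpa using hP⟩
      obtain ⟨w, hw⟩ := Ideal.mem_span_singleton'.1 hN
      by_contra hP'
      refine hcon g P.1 P.2 (fun h0 => hP' ?_) N w (by rw [mul_comm]; exact hw.symm)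
      rw [show P = 0 from Subtype.ext h0]
      exact Submodule.zero_mem _
    have hdisj : ∀ g, Disjoint (PrimeSpectrum.comap j '' PrimeSpectrum.zeroLocus ((Ideal.span {fg g}) : Set Γ(G.left, ⊤)))
        (PrimeSpectrum.comap j '' (PrimeSpectrum.basicOpen (fg g) : Set (PrimeSpectrum Γ(G.left, ⊤)))) := by
      intro g
      rw [Set.disjoint_iff_inter_eq_empty]
      by_contra hne
      have hcS : Topology.IsConstructible (PrimeSpectrum.comap j '' PrimeSpectrum.zeroLocus ((Ideal.span {fg g}) : Set Γ(G.left, ⊤))) :=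
        PrimeSpectrum.isConstructible_comap_image hjfp (by
          rw [PrimeSpectrum.zeroLocus_span, ← compl_compl (PrimeSpectrum.zeroLocus {fg g}),
            ← PrimeSpectrum.basicOpen_eq_zeroLocus_compl]
          exact (PrimeSpectrum.isConstructible_basicOpen).compl)
      have hcT : Topology.IsConstructible (PrimeSpectrum.comap j '' (PrimeSpectrum.basicOpen (fg g) : Set (PrimeSpectrum Γ(G.left, ⊤)))) :=
        PrimeSpectrum.isConstructible_comap_image hjfp PrimeSpectrum.isConstructible_basicOpen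
      obtain ⟨m, hm, hmc⟩ := exists_closedPoint_mem (hcS.inter hcT) (Set.nonempty_iff_ne_empty.2 hne)
      have hfib : IsClosed (PrimeSpectrum.comap j ⁻¹' {m}) := hmc.preimage (PrimeSpectrum.continuous_comap j)
      obtain ⟨x₀, hx₀, hxm⟩ := hm.1
      obtain ⟨y₀, hy₀, hym⟩ := hm.2
      obtain ⟨x, ⟨hx1, hx2⟩, hx3⟩ : ∃ x ∈ PrimeSpectrum.comap j ⁻¹' {m} ∩ PrimeSpectrum.zeroLocus ((Ideal.span {fg g}) : Set Γ(G.left, ⊤)),
          IsClosed ({x} : Set (PrimeSpectrum Γ(G.left, ⊤))) := by
        have h1 : (PrimeSpectrum.comap j ⁻¹' {m} ∩ PrimeSpectrum.zeroLocus ((Ideal.span {fg g}) : Set Γ(G.left, ⊤)) ∩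
            closedPoints (PrimeSpectrum Γ(G.left, ⊤))).Nonempty := by
          rw [← closure_nonempty_iff, JacobsonSpace.closure_inter_closedPoints_eq_closure
            (hfib.inter (PrimeSpectrum.isClosed_zeroLocus _)).isLocallyClosed]
          exact ⟨x₀, subset_closure ⟨hxm, hx₀⟩⟩
        obtain ⟨x, hx, hxc⟩ := h1
        exact ⟨x, hx, hxc⟩
      obtain ⟨y, ⟨hy1, hy2⟩, hy3⟩ : ∃ y ∈ PrimeSpectrum.comap j ⁻¹' {m} ∩ (PrimeSpectrum.basicOpen (fg g) : Set (PrimeSpectrum Γ(G.left, ⊤))),
          IsClosed ({y} : Set (PrimeSpectrum Γ(G.left, ⊤))) := by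
        have h1 : (PrimeSpectrum.comap j ⁻¹' {m} ∩ (PrimeSpectrum.basicOpen (fg g) : Set (PrimeSpectrum Γ(G.left, ⊤))) ∩
            closedPoints (PrimeSpectrum Γ(G.left, ⊤))).Nonempty := by
          rw [← closure_nonempty_iff, JacobsonSpace.closure_inter_closedPoints_eq_closure
            (hfib.isLocallyClosed.inter (PrimeSpectrum.basicOpen (fg g)).isOpen.isLocallyClosed)]
          exact ⟨y₀, subset_closure ⟨hym, hy₀⟩⟩
        obtain ⟨y, hy, hyc⟩ := h1
        exact ⟨y, hy, hyc⟩
      haveI := (PrimeSpectrum.isClosed_singleton_iff_isMaximal x).1 hx3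
      haveI := (PrimeSpectrum.isClosed_singleton_iff_isMaximal y).1 hy3
      obtain ⟨ex, hex⟩ := exists_algHom_of_isMaximal (k := k) x.asIdeal
      obtain ⟨ey, hey⟩ := exists_algHom_of_isMaximal (k := k) y.asIdeal
      have hpq : ∀ Q : C0, j Q ∈ x.asIdeal ↔ j Q ∈ y.asIdeal := fun Q => by
        have h1 : PrimeSpectrum.comap j x = PrimeSpectrum.comap j y := (Set.mem_singleton_iff.1 hx1).trans (Set.mem_singleton_iff.1 hy1).symm
        exact Iff.of_eq (congrArg (fun q : PrimeSpectrum C0 => Q ∈ q.asIdeal) h1)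
      have hxy : ∀ Q : C0, ex (j Q) = ey (j Q) := fun Q => by
        have h1 : j (Q - algebraMap k C0 (ex (j Q))) ∈ x.asIdeal := (hex _).1 (by
          show ex ((Q : Γ(G.left, ⊤)) - algebraMap k Γ(G.left, ⊤) (ex (j Q))) = 0
          rw [map_sub, AlgHom.commutes, Algebra.algebraMap_self_apply]
          exact sub_self _)
        have h2 := (hey _).2 ((hpq _).1 h1)
        change ey ((Q : Γ(G.left, ⊤)) - algebraMap k Γ(G.left, ⊤) (ex (j Q))) = 0 at h2
        rw [map_sub, AlgHom.commutes, Algebra.algebraMap_self_apply, sub_eq_zero] at h2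
        exact h2.symm
      obtain ⟨h, hh⟩ := hsep (VecGrp.ptMap ex ≫ uG) (VecGrp.ptMap ey ≫ uG) (fun a ha => by
        have h1 := hxy ⟨a, Algebra.subset_adjoin ha⟩
        apply (ConcreteCategory.bijective_of_isIso (Scheme.ΓSpecIso (CommRingCat.of k)).hom).injective
        show algPt (VecGrp.ptMap ex ≫ uG) a = algPt (VecGrp.ptMap ey ≫ uG) a
        rw [algPt_ptMap, algPt_ptMap, hu]
        exact h1)
      have h3 := (hf.translate (hτ g)) k (VecGrp.ptMap ex ≫ uG) h
      rw [← hh, algPt_ptMap, algPt_ptMap, hu, (hex _).2 (hx2 (Ideal.subset_span rfl)), zero_mul] at h3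
      exact hy2 ((hey _).1 h3)
    -- the basic opens cover
    have hcover : Ideal.span (Set.range fg) = ⊤ := by
      by_contra hne
      obtain ⟨m, hm, hle⟩ := Ideal.exists_le_maximal _ hne
      obtain ⟨χ, hχ⟩ := exists_algHom_of_isMaximal (k := k) m
      let t := VecGrp.ptMap χ ≫ uG
      have h1 := (hχ _).2 (hle (Ideal.subset_span ⟨t⁻¹, rfl⟩))
      rw [← hu (fg t⁻¹), ← algPt_ptMap χ, hτk, inv_mul_cancel, hf1] at h1
      exact one_ne_zero h1
    obtain ⟨T, hTsub, hT⟩ := Submodule.mem_span_finite_of_mem_span (show (1 : Γ(G.left, ⊤)) ∈ Ideal.span (Set.range fg) from hcover ▸ Submodule.mem_top)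
    choose gT hgT using fun a => show ∃ g, a ∈ T → fg g = a from
      if ha : a ∈ T then (hTsub ha).imp fun g hg _ => hg else ⟨1, fun h => absurd h ha⟩
    let W : Γ(G.left, ⊤) → Set (PrimeSpectrum C0) := fun a =>
      closure (PrimeSpectrum.comap j '' (PrimeSpectrum.basicOpen (fg (gT a)) : Set (PrimeSpectrum Γ(G.left, ⊤))))
    have hW : ∀ a, interior (W a) = ∅ := fun a => interior_closure_eq_empty
      (PrimeSpectrum.isConstructible_comap_image hjfp (by
          rw [PrimeSpectrum.zeroLocus_span, ← compl_compl (PrimeSpectrum.zeroLocus {fg (gT a)}),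
            ← PrimeSpectrum.basicOpen_eq_zeroLocus_compl]
          exact (PrimeSpectrum.isConstructible_basicOpen).compl))
      (PrimeSpectrum.isConstructible_comap_image hjfp PrimeSpectrum.isConstructible_basicOpen) (hdense _) (hdisj _)
    have hall : Set.range (PrimeSpectrum.comap j) ⊆ ⋃ a ∈ T, W a := by
      rintro _ ⟨p, rfl⟩
      obtain ⟨a, haT, hap⟩ : ∃ a ∈ T, a ∉ p.asIdeal := by
        by_contra hc
        push_neg at hc
        exact p.isPrime.ne_top ((Ideal.eq_top_iff_one _).2 (Submodule.span_le.2 hc hT))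
      refine Set.mem_biUnion haT (subset_closure ⟨p, ?_, rfl⟩)
      show fg (gT a) ∉ p.asIdeal
      rw [hgT a haT]
      exact hap
    have hdr : DenseRange (PrimeSpectrum.comap j) := by
      rw [PrimeSpectrum.denseRange_comap_iff_ker_le_nilRadical]
      intro x hx
      rw [show x = 0 from Subtype.ext hx]
      exact Submodule.zero_mem _
    have hcl : IsClosed (⋃ a ∈ T, W a) := T.finite_toSet.isClosed_biUnion fun a _ => isClosed_closure
    have huniv : (⋃ a ∈ T, W a) = Set.univ :=
      Set.eq_univ_of_univ_subset (hdr.closure_range ▸ hcl.closure_subset_iff.2 hall)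
    have hint := interior_iUnion_eq_empty T W (fun a => isClosed_closure) hW
    rw [huniv, interior_univ] at hint
    haveI : Nontrivial C0 := by
      refine ⟨0, 1, fun h => ?_⟩
      have h1 := congrArg (fun z : C0 => algPt (1 : VecGrp.pt k k ⟶ G) (z : Γ(G.left, ⊤))) h
      simp at h1
    exact Set.univ_nonempty.ne_empty hint
  have hPinv : Semi i P 1 := hCinv P hPC
  have hfgs : Semi i (fg g) cu := hf.translate (hτ g)
  have hw' : Semi i (w * P) (↑cu⁻¹ : Γ(H.left, ⊤)) := by
    refine semi_of_pts fun t h => ?_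
    have hc : algPt h (cu : Γ(H.left, ⊤)) * algPt h (↑cu⁻¹ : Γ(H.left, ⊤)) = 1 := by
      rw [← map_mul, Units.mul_inv, map_one]
    have hPt := hPinv k t h
    rw [map_one, _root_.mul_one] at hPt
    have e1 := congrArg (algPt t) hPw
    have e2 := congrArg (algPt (t * (h ≫ i))) hPw
    simp only [map_pow, map_mul, hfgs k t h, hPt] at e1 e2
    rw [map_mul, map_mul, hPt]
    by_cases h0 : algPt t (fg g) = 0
    · rw [h0, zero_mul] at e1
      simp [pow_eq_zero_iff'.1 e1]
    · have h1 : algPt h (cu : Γ(H.left, ⊤)) * algPt (t * (h ≫ i)) w = algPt t w :=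
        mul_left_cancel₀ h0 (by rw [← _root_.mul_assoc, ← e2, e1])
      rw [← h1]
      linear_combination (-(algPt (t * (h ≫ i)) w) * algPt t P) * hc
  have hw0 : w * P ≠ 0 := fun h => by
    have h1 : P ^ (N + 1) = 0 := by rw [pow_succ, hPw, _root_.mul_assoc, h, mul_zero]
    exact hP0 (IsReduced.eq_zero P ⟨_, h1⟩)
  obtain ⟨f', hf', hf'1⟩ := hw'.exists_normalised hw0
  exact ⟨f', _, Units.inv_mul cu, hf', hf'1⟩

end Groth.Agent.AGF12

end
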