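import Groth.Prelude.Def_AGF
import Groth.Agent.AGF12.Inverse
import Groth.Agent.S11188
import Mathlib.AlgebraicGeometry.Sites.Fpqc
import Mathlib.AlgebraicGeometry.ZariskisMainTheorem
import Mathlib.AlgebraicGeometry.QuasiAffine
import Mathlib.AlgebraicGeometry.AlgClosed.Basic

/-!
# Homogeneous spaces of observable subgroups are quasi-affine
-/

set_option autoImplicit false
set_option backward.isDefEq.respectTransparency false
set_option backward.isDefEq.respectTransparency.types false

universe u

open CategoryTheory MonoidalCategory CartesianMonoidalCategory MonObj GrpObj AlgebraicGeometry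
open scoped TensorProduct
open Groth.Agent.CommAlg4.AffPt Groth.Agent

noncomputable section

namespace Groth.Agent.AGF12

variable {k : Type u} [Field k] [IsAlgClosed k]

theorem Quot.pt_left_comp {G : Over (Spec (CommRingCat.of k))} (t : VecGrp.pt k k ⟶ G) :
    t.left ≫ G.left.toSpecΓ = Spec.map (CommRingCat.ofHom (algPt t)) := by
  rw [Scheme.toSpecΓ_naturality]
  show (Spec (CommRingCat.of k)).toSpecΓ ≫ Spec.map t.left.appTop = _
  rw [show (Spec (CommRingCat.of k)).toSpecΓ = Spec.map (Scheme.ΓSpecIso (CommRingCat.of k)).hom from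
    (SpecMap_ΓSpecIso_hom (CommRingCat.of k)).symm, ← Spec.map_comp]
  rfl

theorem Quot.exists_pt_over {G : Over (Spec (CommRingCat.of k))} [LocallyOfFiniteType G.hom] (x : G.left)
    (hx : IsClosed ({x} : Set G.left)) : ∃ t : VecGrp.pt k k ⟶ G, t.left.base (IsLocalRing.closedPoint k) = x := by
  refine ⟨Over.homMk (pointOfClosedPoint G.hom x hx) ?_, pointOfClosedPoint_apply G.hom x hx _⟩
  show pointOfClosedPoint G.hom x hx ≫ G.hom = Spec.map (CommRingCat.ofHom (algebraMap k k))
  rw [pointOfClosedPoint_comp]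
  simp

section Quot

variable {G H X : Over (Spec (CommRingCat.of k))} [GrpObj G] [GrpObj H] {i : H ⟶ G} [IsAffine G.left] [Smooth G.hom]
  {a : AlgGrp.Action G X} {o : 𝟙_ (Over (Spec (CommRingCat.of k))) ⟶ X}

theorem Quot.isPullback_left (hX : AGF.IsQuotient i X a o) :
    IsPullback (fst G H).left ((G ◁ i) ≫ μ[G]).left (a.orbitMap o).left (a.orbitMap o).left :=
  hX.2.2.2.map (Over.forget _)

theorem Quot.comp_orbit (hX : AGF.IsQuotient i X a o) :
    ((G ◁ i) ≫ μ[G]) ≫ a.orbitMap o = fst G H ≫ a.orbitMap o := hX.2.2.2.w.symm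

theorem Quot.compactSpace (hX : AGF.IsQuotient i X a o) : CompactSpace X.left := by
  haveI := hX.2.2.1
  exact ⟨by
    rw [← Set.range_eq_univ.2 (a.orbitMap o).left.surjective]
    exact isCompact_range (a.orbitMap o).left.continuous⟩

theorem Quot.quasiCompact_orbit (hX : AGF.IsQuotient i X a o) : QuasiCompact (a.orbitMap o).left := by
  haveI := hX.1
  haveI : IsLocallyNoetherian X.left := LocallyOfFiniteType.isLocallyNoetherian X.hom
  haveI : QuasiCompact ((a.orbitMap o).left ≫ X.hom) := by
    rw [Over.w]; infer_instance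
  exact QuasiCompact.of_comp (a.orbitMap o).left X.hom

theorem Quot.descend (hX : AGF.IsQuotient i X a o) {Z : Scheme.{u}} (φ : G.left ⟶ Z)
    (h : ((G ◁ i) ≫ μ[G]).left ≫ φ = (fst G H).left ≫ φ) :
    ∃ ψ : X.left ⟶ Z, (a.orbitMap o).left ≫ ψ = φ := by
  haveI := Quot.quasiCompact_orbit hX
  haveI := hX.2.1
  haveI := hX.2.2.1
  have hP := Quot.isPullback_left hX
  refine ⟨EffectiveEpi.desc (a.orbitMap o).left φ fun {W} g₁ g₂ hg => ?_, EffectiveEpi.fac _ _ _⟩
  rw [← hP.lift_fst g₁ g₂ hg, Category.assoc, ← h, ← Category.assoc, hP.lift_snd]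

theorem Quot.mem_of_orbit_eq (hX : AGF.IsQuotient i X a o) {t t' : VecGrp.pt k k ⟶ G}
    (h : t ≫ a.orbitMap o = t' ≫ a.orbitMap o) : ∃ x : VecGrp.pt k k ⟶ H, t * (x ≫ i) = t' := by
  refine ⟨hX.2.2.2.lift t t' h ≫ snd G H, ?_⟩
  conv_lhs => enter [1]; rw [← hX.2.2.2.lift_fst t t' h]
  conv_rhs => rw [← hX.2.2.2.lift_snd t t' h]
  rw [Hom.mul_def, ← Category.assoc (hX.2.2.2.lift t t' h) _ μ[G]]
  congr 1
  apply CartesianMonoidalCategory.hom_ext <;> simp [Category.assoc]

theorem Quot.orbit_eq_of_mem (hX : AGF.IsQuotient i X a o) (t : VecGrp.pt k k ⟶ G) (x : VecGrp.pt k k ⟶ H) :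
    (t * (x ≫ i)) ≫ a.orbitMap o = t ≫ a.orbitMap o := by
  have h1 : lift t x ≫ ((G ◁ i) ≫ μ[G]) = t * (x ≫ i) := by
    rw [Hom.mul_def, ← Category.assoc]
    congr 1
    apply CartesianMonoidalCategory.hom_ext <;> simp
  rw [← h1, Category.assoc, Quot.comp_orbit hX, ← Category.assoc, lift_fst]

theorem Quot.isSeparated [IsClosedImmersion i.left] (hX : AGF.IsQuotient i X a o) : IsSeparated X.hom := by
  haveI := Quot.quasiCompact_orbit hX
  haveI := hX.2.1
  haveI := hX.2.2.1
  let π := (a.orbitMap o).left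
  let m : Limits.pullback G.hom G.hom ⟶ Limits.pullback X.hom X.hom :=
    Limits.pullback.map G.hom G.hom X.hom X.hom π π (𝟙 _) (by simp [π]) (by simp [π])
  haveI : Surjective m := MorphismProperty.pullbackMap (P := @Surjective)
    ‹Surjective π› ‹Surjective π› (Over.w (a.orbitMap o)).symm (Over.w (a.orbitMap o)).symm
  haveI : Flat m := MorphismProperty.pullbackMap (P := @Flat)
    ‹Flat π› ‹Flat π› (Over.w (a.orbitMap o)).symm (Over.w (a.orbitMap o)).symm
  haveI : QuasiCompact m := MorphismProperty.pullbackMap (P := @QuasiCompact)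
    ‹QuasiCompact π› ‹QuasiCompact π› (Over.w (a.orbitMap o)).symm (Over.w (a.orbitMap o)).symm
  let e : G ⊗ G ≅ G ⊗ G :=
    { hom := lift (fst G G) (fst G G * snd G G)
      inv := lift (fst G G) ((fst G G)⁻¹ * snd G G)
      hom_inv_id := by
        apply CartesianMonoidalCategory.hom_ext
        · simp
        · simp [MonObj.comp_mul, GrpObj.comp_inv]
      inv_hom_id := by
        apply CartesianMonoidalCategory.hom_ext
        · simp
        · simp [MonObj.comp_mul] }
  let s : G ⊗ H ⟶ G ⊗ G := (G ◁ i) ≫ e.hom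
  haveI : IsClosedImmersion s.left := by
    haveI : IsIso e.hom := Iso.isIso_hom e
    haveI : IsIso e.hom.left := (Over.forget _).map_isIso e.hom
    haveI : IsClosedImmersion (G ◁ i).left := MorphismProperty.pullbackMap (P := @IsClosedImmersion)
      (show IsClosedImmersion (𝟙 G : G ⟶ G).left by simpa using (inferInstance : IsClosedImmersion (𝟙 G.left)))
      ‹IsClosedImmersion i.left› (Over.w (𝟙 G)).symm (Over.w i).symm
    show IsClosedImmersion ((G ◁ i).left ≫ e.hom.left)
    infer_instance
  have hs1 : s.left ≫ Limits.pullback.fst G.hom G.hom = (fst G H).left := by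
    have : s ≫ fst G G = fst G H := by simp [s, e]
    exact congrArg (fun z : G ⊗ H ⟶ G => z.left) this
  have hs2 : s.left ≫ Limits.pullback.snd G.hom G.hom = ((G ◁ i) ≫ μ[G]).left := by
    have : s ≫ snd G G = (G ◁ i) ≫ μ[G] := by
      simp [s, e, Hom.mul_def, ← Category.assoc]
    exact congrArg (fun z : G ⊗ H ⟶ G => z.left) this
  have hP := Quot.isPullback_left hX
  have hpre : m.base ⁻¹' Set.range (Limits.pullback.diagonal X.hom).base = Set.range s.left.base := by
    ext z
    constructor
    · rintro ⟨x, hx⟩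
      obtain ⟨w, hw1, -⟩ := Scheme.Pullback.exists_preimage_pullback (f := m) (g := Limits.pullback.diagonal X.hom) z x hx.symm
      have hc := Limits.pullback.condition (f := m) (g := Limits.pullback.diagonal X.hom)
      let q₁ := Limits.pullback.fst m (Limits.pullback.diagonal X.hom) ≫ Limits.pullback.fst G.hom G.hom
      let q₂ := Limits.pullback.fst m (Limits.pullback.diagonal X.hom) ≫ Limits.pullback.snd G.hom G.hom
      have hq : q₁ ≫ π = q₂ ≫ π := by
        have h1 := congrArg (· ≫ Limits.pullback.fst X.hom X.hom) hc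
        have h2 := congrArg (· ≫ Limits.pullback.snd X.hom X.hom) hc
        simp only [Category.assoc, Limits.pullback.diagonal_fst, Limits.pullback.diagonal_snd] at h1 h2
        simp only [m, Limits.pullback.map, Limits.pullback.lift_fst, Limits.pullback.lift_snd] at h1 h2
        simp only [q₁, q₂, π, Category.assoc]
        exact h1.trans h2.symm
      have hl : hP.lift q₁ q₂ hq ≫ s.left = Limits.pullback.fst m (Limits.pullback.diagonal X.hom) := by
        refine Limits.pullback.hom_ext ?_ ?_
        · rw [Category.assoc, hs1, hP.lift_fst]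
        · rw [Category.assoc, hs2, hP.lift_snd]
      exact ⟨(hP.lift q₁ q₂ hq).base w, by rw [← hw1, ← hl]; rfl⟩
    · rintro ⟨w, rfl⟩
      refine ⟨((fst G H).left ≫ π).base w, ?_⟩
      have : s.left ≫ m = ((fst G H).left ≫ π) ≫ Limits.pullback.diagonal X.hom := by
        refine Limits.pullback.hom_ext ?_ ?_
        · simp only [Category.assoc, m, Limits.pullback.map, Limits.pullback.lift_fst, Limits.pullback.diagonal_fst, Category.comp_id]
          rw [← Category.assoc, hs1]
        · simp only [Category.assoc, m, Limits.pullback.map, Limits.pullback.lift_snd, Limits.pullback.diagonal_snd, Category.comp_id]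
          rw [← Category.assoc, hs2]
          exact hP.w.symm
      exact congrArg (fun z => z.base w) this.symm
  refine ⟨IsClosedImmersion.of_isPreimmersion _ ?_⟩
  rw [← (Flat.isQuotientMap_of_surjective m).isClosed_preimage, hpre]
  exact s.left.isClosedEmbedding.isClosed_range

theorem Quot.exists_pt (hX : AGF.IsQuotient i X a o) (x : X.left) (hx : IsClosed ({x} : Set X.left)) :
    ∃ t : VecGrp.pt k k ⟶ G, (t ≫ a.orbitMap o).left.base (IsLocalRing.closedPoint k) = x := by
  haveI := hX.2.2.1
  haveI : JacobsonSpace G.left := LocallyOfFiniteType.jacobsonSpace G.hom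
  have hcl : IsClosed ((a.orbitMap o).left.base ⁻¹' {x}) := hx.preimage (a.orbitMap o).left.continuous
  obtain ⟨g, hg, hgc⟩ := nonempty_inter_closedPoints
    (show ((a.orbitMap o).left.base ⁻¹' {x}).Nonempty from (a.orbitMap o).left.surjective x) hcl.isLocallyClosed
  obtain ⟨t, ht⟩ := Quot.exists_pt_over g hgc
  refine ⟨t, ?_⟩
  show (a.orbitMap o).left.base (t.left.base _) = x
  rw [ht]
  exact hg

/-- Homogeneous spaces of observable subgroups are quasi-affine. -/
theorem Quot.isQuasiAffine_of_observable [IsMonHom i] [IsClosedImmersion i.left] [Smooth H.hom] (hX : AGF.IsQuotient i X a o)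
    (hobs : AGF.IsObservableIn k i) : X.left.IsQuasiAffine := by
  classical
  haveI : IsAffine H.left := isAffine_of_isAffineHom i.left
  haveI : IsAffine (G ⊗ H).left := by rw [Over.tensorObj_left]; infer_instance
  haveI := hX.1
  haveI := Quot.isSeparated hX
  haveI := Quot.compactSpace hX
  haveI := hX.2.1
  haveI := hX.2.2.1
  haveI := Quot.quasiCompact_orbit hX
  obtain ⟨V, _, _, _, ρ, v, hv⟩ := ((S11188.result k G H i).out 0 1 rfl rfl).1 hobs
  letI := gAlg G
  obtain ⟨Fc, hFc⟩ := exists_coeff G V ρ v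
  let b := Module.finBasis k V
  let C := Algebra.adjoin k (Set.range fun l => Fc (b.coord l))
  have hCinv : ∀ c ∈ C, AGF.IsRTransInv i c := by
    have hgen : ∀ l, AGF.IsRTransInv i (Fc (b.coord l)) := fun l => invariant_of_semi i _ (semi_of_pts fun t h => by
      rw [map_one, _root_.mul_one, hFc, hFc, map_mul, LinearEquiv.mul_apply, (hv (h ≫ i)).2 ⟨h, rfl⟩])
    intro c hc
    induction hc using Algebra.adjoin_induction with
    | mem x hx => obtain ⟨l, rfl⟩ := hx; exact hgen l
    | algebraMap r =>
      refine invariant_of_semi i _ fun B _ _ t h => ?_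
      rw [map_one, _root_.mul_one]
      exact (algPt_appTop_hom _ _).trans (algPt_appTop_hom _ _).symm
    | add x y _ _ hx hy => exact (AGF.rTransInv i).add_mem hx hy
    | mul x y _ _ hx hy => exact (AGF.rTransInv i).mul_mem hx hy
  let incl := CommRingCat.ofHom C.val.toRingHom
  let φ : G.left ⟶ Spec (CommRingCat.of C) := G.left.toSpecΓ ≫ Spec.map incl
  have hφ : ((G ◁ i) ≫ μ[G]).left ≫ φ = (fst G H).left ≫ φ := by
    simp only [φ, ← Category.assoc, Scheme.toSpecΓ_naturality]
    rw [Category.assoc, Category.assoc, ← Spec.map_comp, ← Spec.map_comp]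
    congr 2
    ext c
    exact hCinv c c.2
  obtain ⟨ψ, hψ⟩ := Quot.descend hX φ hφ
  haveI : LocallyOfFiniteType ψ := by
    haveI : LocallyOfFiniteType (ψ ≫ Spec.map (CommRingCat.ofHom (algebraMap k C))) := by
      have e : ψ ≫ Spec.map (CommRingCat.ofHom (algebraMap k C)) = X.hom := by
        haveI : Epi (a.orbitMap o).left := Flat.epi_of_flat_of_surjective _
        rw [← cancel_epi (a.orbitMap o).left, ← Category.assoc, hψ, Over.w]
        simp only [φ, Category.assoc, ← Spec.map_comp]
        have h1 : CommRingCat.ofHom (algebraMap k C) ≫ incl =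
            (Scheme.ΓSpecIso (CommRingCat.of k)).inv ≫ G.hom.appTop := rfl
        rw [h1, Spec.map_comp, ← Category.assoc, ← Scheme.toSpecΓ_naturality, Category.assoc,
          toSpecΓ_SpecMap_ΓSpecIso_inv, Category.comp_id]
      rw [e]; infer_instance
    exact locallyOfFiniteType_of_comp ψ (Spec.map (CommRingCat.ofHom (algebraMap k C)))
  haveI : IsSeparated ψ := by
    haveI : X.left.IsSeparated := ⟨by rw [← Limits.terminal.comp_from X.hom]; infer_instance⟩
    infer_instance
  haveI : QuasiCompact ψ := (quasiCompact_iff_compactSpace ψ).2 (Quot.compactSpace hX)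
  have hinj : ∀ x y : X.left, IsClosed ({x} : Set X.left) → IsClosed ({y} : Set X.left) → ψ.base x = ψ.base y → x = y := by
    intro x y hx hy hxy
    obtain ⟨t, rfl⟩ := Quot.exists_pt hX x hx
    obtain ⟨t', rfl⟩ := Quot.exists_pt hX y hy
    have hk : ∀ s : VecGrp.pt k k ⟶ G, (s ≫ a.orbitMap o).left ≫ ψ = Spec.map (CommRingCat.ofHom ((algPt s).comp C.val.toRingHom)) := by
      intro s
      rw [Over.comp_left, Category.assoc, hψ]
      simp only [φ, ← Category.assoc, Quot.pt_left_comp, ← Spec.map_comp]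
      rfl
    have hval : ∀ c : C, algPt t (c : Γ(G.left, ⊤)) = algPt t' (c : Γ(G.left, ⊤)) := fun c => by
      have hkt : (Spec.map (CommRingCat.ofHom ((algPt t).comp C.val.toRingHom))).base (IsLocalRing.closedPoint k) =
          (Spec.map (CommRingCat.ofHom ((algPt t').comp C.val.toRingHom))).base (IsLocalRing.closedPoint k) := by
        rw [← hk, ← hk]; exact hxy
      let d : C := c - algebraMap k C (algPt t (c : Γ(G.left, ⊤)))
      have hd : ∀ s : VecGrp.pt k k ⟶ G, algPt s (d : Γ(G.left, ⊤)) = algPt s (c : Γ(G.left, ⊤)) - algPt t (c : Γ(G.left, ⊤)) := fun s => by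
        show algPt s ((c : Γ(G.left, ⊤)) - algebraMap k Γ(G.left, ⊤) _) = _
        rw [map_sub]
        congr 1
        exact algPt_appTop_hom _ _
      have hmem : d ∈ ((Spec.map (CommRingCat.ofHom ((algPt t).comp C.val.toRingHom))).base (IsLocalRing.closedPoint k)).asIdeal := by
        show algPt t (d : Γ(G.left, ⊤)) ∈ IsLocalRing.maximalIdeal k
        rw [hd, sub_self]
        exact Ideal.zero_mem _
      rw [hkt] at hmem
      change algPt t' (d : Γ(G.left, ⊤)) ∈ IsLocalRing.maximalIdeal k at hmem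
      rw [IsLocalRing.maximalIdeal_eq_bot, Ideal.mem_bot, hd, sub_eq_zero] at hmem
      exact hmem.symm
    have hρ : ρ.ρ k t ((1 : k) ⊗ₜ[k] v) = ρ.ρ k t' ((1 : k) ⊗ₜ[k] v) := by
      have h2 : ∀ l, b.coord l (TensorProduct.lid k V (ρ.ρ k t ((1 : k) ⊗ₜ[k] v))) =
          b.coord l (TensorProduct.lid k V (ρ.ρ k t' ((1 : k) ⊗ₜ[k] v))) := fun l => by
        have key : ∀ z : k ⊗[k] V, TensorProduct.rid k k ((b.coord l).lTensor k z) = b.coord l (TensorProduct.lid k V z) := fun z => by
          induction z using TensorProduct.induction_on with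
          | zero => simp
          | tmul p q => simp [mul_comm]
          | add p q hp hq => simp only [map_add, hp, hq]
        rw [← key, ← key, ← hFc, ← hFc]
        exact hval ⟨_, Algebra.subset_adjoin ⟨l, rfl⟩⟩
      exact (TensorProduct.lid k V).injective (b.ext_elem h2)
    obtain ⟨h, hh⟩ := (hv (t⁻¹ * t')).1 (by
      rw [map_mul, LinearEquiv.mul_apply, ← hρ, ← LinearEquiv.mul_apply, ← map_mul, inv_mul_cancel, map_one]
      rfl)
    have e : t' = t * (h ≫ i) := by rw [hh, mul_inv_cancel_left]
    rw [e, Quot.orbit_eq_of_mem hX]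
  haveI : JacobsonSpace X.left := LocallyOfFiniteType.jacobsonSpace X.hom
  haveI : Algebra.FiniteType k C := (Subalgebra.fg_iff_finiteType _).1
    ⟨Finset.univ.image fun l => Fc (b.coord l), by rw [Finset.coe_image, Finset.coe_univ, Set.image_univ]⟩
  haveI : JacobsonSpace (Spec (CommRingCat.of C) : Scheme.{u}) := by
    haveI : IsJacobsonRing C := isJacobsonRing_of_finiteType (A := k)
    exact inferInstanceAs (JacobsonSpace (PrimeSpectrum C))
  haveI : LocallyQuasiFinite ψ := by
    rw [← Scheme.Hom.quasiFiniteLocus_eq_top_iff, eq_top_iff]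
    intro x _
    by_contra hx
    have hcl : IsClosed (ψ.quasiFiniteLocus : Set X.left)ᶜ := ψ.quasiFiniteLocus.isOpen.isClosed_compl
    obtain ⟨y, hy, hyc⟩ := nonempty_inter_closedPoints ⟨x, hx⟩ hcl.isLocallyClosed
    refine hy (show y ∈ ψ.quasiFiniteLocus from ?_)
    rw [Scheme.Hom.mem_quasiFiniteLocus, Scheme.Hom.quasiFiniteAt_iff_isOpen_singleton_asFiber]
    obtain ⟨t, ht⟩ := Quot.exists_pt hX y hyc
    have hψy : IsClosed ({ψ.base y} : Set (Spec (CommRingCat.of C) : Scheme.{u})) :=
      ψ.closePoints_subset_preimage_closedPoints hyc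
    have hfib : ψ.base ⁻¹' {ψ.base y} = {y} := by
      refine Set.Subset.antisymm (fun z hz => ?_) (Set.singleton_subset_iff.2 rfl)
      by_contra hzy
      have hloc : IsLocallyClosed (ψ.base ⁻¹' {ψ.base y} ∩ ({y} : Set X.left)ᶜ) :=
        (hψy.preimage ψ.continuous).isLocallyClosed.inter (show IsClosed ({y} : Set X.left) from hyc).isOpen_compl.isLocallyClosed
      obtain ⟨w, ⟨hw1, hw2⟩, hwc⟩ := nonempty_inter_closedPoints (show (ψ.base ⁻¹' {ψ.base y} ∩ ({y} : Set X.left)ᶜ).Nonempty from ⟨z, hz, hzy⟩) hloc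
      exact hw2 (hinj w y hwc hyc hw1)
    have : ({ψ.asFiber y} : Set _) = Set.univ := Set.eq_univ_of_forall fun z =>
      (ψ.fiberι _).isEmbedding.injective (by
        rw [Scheme.Hom.fiberι_asFiber]
        exact hfib.le ((ψ.range_fiberι _).le ⟨z, rfl⟩))
    rw [this]; exact isOpen_univ
  haveI : IsAffine ψ.normalization := isAffine_of_isAffineHom ψ.fromNormalization
  exact Scheme.IsQuasiAffine.of_isImmersion ψ.toNormalization

end Quot

end Groth.Agent.AGF12

end
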