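import Groth.Agent.AGF12.Semi
import Mathlib.LinearAlgebra.Matrix.Adjugate

/-!
# Minors of a Chevalley frame; the criterion for observability
-/

set_option autoImplicit false
set_option backward.isDefEq.respectTransparency false
set_option backward.isDefEq.respectTransparency.types false

universe u

open CategoryTheory MonoidalCategory CartesianMonoidalCategory MonObj GrpObj AlgebraicGeometry
open scoped TensorProduct
open Groth.Agent.CommAlg4.AffPt Groth.Agent

noncomputable section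

namespace Groth.Agent.AGF12

variable {k : Type u} [Field k]
variable {G H : Over (Spec (CommRingCat.of k))} [GrpObj G] [GrpObj H] {i : H ⟶ G}

namespace Frame

variable (F : Frame i)

/-- The maximal minor on the columns of functions vanishing on `H`. -/
def minor (sel : Fin F.d → Fin F.d ⊕ Fin F.e) : Γ(G.left, ⊤) := (F.M.submatrix sel Sum.inl).det

/-- The scalar by which `H` acts on the minors. -/
def wt : Γ(H.left, ⊤) := i.left.appTop (F.minor Sum.inl)

theorem map_minor {B : Type u} [CommRing B] (φ : Γ(G.left, ⊤) →+* B) (sel : Fin F.d → Fin F.d ⊕ Fin F.e) :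
    φ (F.minor sel) = ((F.M.map φ).submatrix sel Sum.inl).det := by
  rw [minor, RingHom.map_det, RingHom.mapMatrix_apply, Matrix.submatrix_map]

theorem minor_mul {B : Type u} [CommRing B] [Algebra k B] (t g : VecGrp.pt k B ⟶ G)
    (hg : ∀ (r : Fin F.e) (l : Fin F.d), algPt g (F.M (Sum.inr r) (Sum.inl l)) = 0)
    (sel : Fin F.d → Fin F.d ⊕ Fin F.e) :
    algPt (t * g) (F.minor sel) = algPt t (F.minor sel) * algPt g (F.minor Sum.inl) := by
  rw [map_minor, map_minor, map_minor, ← Matrix.det_mul, F.mat_mul]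
  congr 1
  ext a b
  simp only [Matrix.submatrix_apply, Matrix.mul_apply, Matrix.map_apply, Fintype.sum_sum_type, hg, mul_zero,
    Finset.sum_const_zero, add_zero]

theorem semi_minor (sel : Fin F.d → Fin F.d ⊕ Fin F.e) : Semi i (F.minor sel) F.wt := by
  intro B _ _ t h
  rw [F.minor_mul t (h ≫ i) (fun r l => F.corner B h r l) sel, wt, algPt_comp]

theorem minor_one_inl {B : Type u} [CommRing B] [Algebra k B] :
    algPt (1 : VecGrp.pt k B ⟶ G) (F.minor Sum.inl) = 1 := by
  rw [map_minor, F.mat_one, Matrix.submatrix_one _ Sum.inl_injective, Matrix.det_one]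

/-- Replace the row `l₀` by the row `r`. -/
def rowsel (l₀ : Fin F.d) (r : Fin F.e) : Fin F.d → Fin F.d ⊕ Fin F.e :=
  fun l => if l = l₀ then Sum.inr r else Sum.inl l

theorem minor_one_rowsel {B : Type u} [CommRing B] [Algebra k B] (l₀ : Fin F.d) (r : Fin F.e) :
    algPt (1 : VecGrp.pt k B ⟶ G) (F.minor (F.rowsel l₀ r)) = 0 := by
  rw [map_minor, F.mat_one]
  exact Matrix.det_eq_zero_of_row_eq_zero l₀ fun l => by simp [rowsel]

theorem corner_of_minors (g : VecGrp.pt k k ⟶ G) (h0 : algPt g (F.minor Sum.inl) ≠ 0)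
    (hz : ∀ l₀ r, algPt g (F.minor (F.rowsel l₀ r)) = 0) (r : Fin F.e) (l : Fin F.d) :
    algPt g (F.M (Sum.inr r) (Sum.inl l)) = 0 := by
  let Mg : Matrix (Fin F.d) (Fin F.d) k := (F.M.map (algPt g)).submatrix Sum.inl Sum.inl
  let x : Fin F.d → k := fun l => algPt g (F.M (Sum.inr r) (Sum.inl l))
  have hdet : Mg.det = algPt g (F.minor Sum.inl) := (F.map_minor (algPt g) _).symm
  have hminor : ∀ l₀, (Mg.updateRow l₀ x).det = 0 := fun l₀ => by
    rw [← hz l₀ r, map_minor]
    congr 1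
    refine Matrix.ext fun a b => ?_
    by_cases ha : a = l₀ <;> simp [Mg, x, rowsel, Matrix.updateRow_apply, ha]
  have hzero : Matrix.cramer Mg.transpose x = 0 := funext fun l₀ => by
    rw [Matrix.cramer_transpose_apply, hminor l₀]; rfl
  have h2 := Matrix.mulVec_cramer Mg.transpose x
  rw [hzero, Matrix.mulVec_zero, Matrix.det_transpose, hdet] at h2
  have h3 := congrFun h2 l
  simp only [Pi.zero_apply, Pi.smul_apply, smul_eq_mul] at h3
  exact (mul_eq_zero.1 h3.symm).resolve_left h0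

end Frame

variable [IsMonHom i]

theorem algPt_one_comp {B : Type u} [CommRing B] [Algebra k B] (x : Γ(G.left, ⊤)) :
    algPt (1 : VecGrp.pt k B ⟶ G) x = algPt (1 : VecGrp.pt k B ⟶ H) (i.left.appTop x) := by
  rw [← algPt_comp, MonObj.one_comp]

theorem Semi.one_apply {f : Γ(G.left, ⊤)} {c : Γ(H.left, ⊤)} (hf : Semi i f c)
    (h1 : algPt (1 : VecGrp.pt k k ⟶ G) f = 1) {B : Type u} [CommRing B] [Algebra k B] (h : VecGrp.pt k B ⟶ H) :
    algPt (h ≫ i) f = algPt h c := by
  have := hf B 1 h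
  rw [_root_.one_mul] at this
  rw [this, show (1 : VecGrp.pt k B ⟶ G) = VecGrp.ptMap (Algebra.ofId k B) ≫ (1 : VecGrp.pt k k ⟶ G) from
    (MonObj.comp_one _).symm, algPt_ptMap, h1, map_one, _root_.one_mul]

theorem Semi.mul_apply {f : Γ(G.left, ⊤)} {c : Γ(H.left, ⊤)} (hf : Semi i f c)
    (h1 : algPt (1 : VecGrp.pt k k ⟶ G) f = 1) {B : Type u} [CommRing B] [Algebra k B] (h h' : VecGrp.pt k B ⟶ H) :
    algPt (h * h') c = algPt h c * algPt h' c := by
  rw [← hf.one_apply h1, MonObj.mul_comp, hf B _ h', hf.one_apply h1]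

theorem Semi.isUnit [IsAffine H.left] {f : Γ(G.left, ⊤)} {c : Γ(H.left, ⊤)} (hf : Semi i f c)
    (h1 : algPt (1 : VecGrp.pt k k ⟶ G) f = 1) : IsUnit c := by
  letI := gAlg H
  obtain ⟨uH, hu⟩ := exists_univ_pt H
  have h2 := hf.mul_apply h1 uH⁻¹ uH
  have h3 : algPt (1 : VecGrp.pt k Γ(H.left, ⊤) ⟶ H) c = 1 := by
    rw [← hf.one_apply h1, MonObj.one_comp,
      show (1 : VecGrp.pt k Γ(H.left, ⊤) ⟶ G) = VecGrp.ptMap (Algebra.ofId k _) ≫ (1 : VecGrp.pt k k ⟶ G) from
      (MonObj.comp_one _).symm, algPt_ptMap, h1, map_one]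
  rw [inv_mul_cancel, h3, hu] at h2
  exact IsUnit.of_mul_eq_one_right _ h2.symm

theorem gmFn_chiVal {B : Type u} [CommRing B] [Algebra k B] (χ : H ⟶ Red.Gm (Spec (CommRingCat.of k)))
    (h : VecGrp.pt k B ⟶ H) : VecGrp.chiVal χ h = algPt h (Red.gmFn χ) := rfl

/-- A multiplicative unit is a character. -/
theorem exists_character [IsAffine H.left] {c : Γ(H.left, ⊤)} (hc : IsUnit c)
    (hm : ∀ (B : Type u) [CommRing B] [Algebra k B] (h h' : VecGrp.pt k B ⟶ H), algPt (h * h') c = algPt h c * algPt h' c) :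
    ∃ χ : H ⟶ Red.Gm (Spec (CommRingCat.of k)), IsMonHom χ ∧ Red.gmFn χ = c := by
  obtain ⟨χ, hχ⟩ := SGA3cLib.exists_gmFn (X := H) hc
  have key : (fst H H * snd H H) ≫ χ = (fst H H ≫ χ) * (snd H H ≫ χ) := by
    haveI : IsAffine (H ⊗ H).left := by rw [Over.tensorObj_left]; infer_instance
    letI := gAlg (H ⊗ H)
    obtain ⟨uP, huP⟩ := exists_univ_pt (H ⊗ H)
    apply SGA3cLib.gmFn_injective
    rw [SGA3cLib.gmFn_mul, SGA3cLib.gmFn_comp, SGA3cLib.gmFn_comp, SGA3cLib.gmFn_comp, hχ]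
    have h := hm _ (uP ≫ fst H H) (uP ≫ snd H H)
    rw [← MonObj.comp_mul, algPt_comp, algPt_comp, algPt_comp, huP, huP, huP] at h
    exact h
  refine ⟨χ, Groth.Agent.SGA3cLib.BCPoints.isMonHom_of_mul χ fun X x y => ?_, hχ⟩
  have h := congrArg (fun z => lift x y ≫ z) key
  simpa only [MonObj.comp_mul, ← Category.assoc, lift_fst, lift_snd] using h

/-- A rational point killing all functions which kill `H` is a point of `H`. -/
theorem exists_pt_of_ker [IsAffine G.left] [IsClosedImmersion i.left] (g : VecGrp.pt k k ⟶ G)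
    (hg : ∀ x, i.left.appTop x = 0 → algPt g x = 0) : ∃ h : VecGrp.pt k k ⟶ H, h ≫ i = g := by
  haveI : IsAffine H.left := isAffine_of_isAffineHom i.left
  letI := gAlg G
  letI := gAlg H
  obtain ⟨uH, hu⟩ := exists_univ_pt H
  obtain ⟨φ, hφ⟩ := exists_algHom g
  obtain ⟨iA, hiA⟩ := exists_algHom (Z := G) (uH ≫ i)
  have hiA' : ∀ f, iA f = i.left.appTop f := fun f => by rw [hiA, algPt_comp, hu]
  have hs : Function.Surjective iA := fun y => by
    obtain ⟨x, hx⟩ := Scheme.Hom.app_surjective i.left ⊤ (isAffineOpen_top _) y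
    exact ⟨x, (hiA' x).trans hx⟩
  let ψ : Γ(H.left, ⊤) →ₐ[k] k := AlgHom.liftOfSurjective iA hs φ (fun x hx => by
    change φ x = 0
    rw [hφ]
    exact hg x ((hiA' x).symm.trans hx))
  refine ⟨VecGrp.ptMap ψ ≫ uH, pt_eq _ _ fun x => ?_⟩
  rw [algPt_comp, algPt_ptMap, hu, ← hiA', ← hφ]
  exact AlgHom.liftOfSurjective_apply iA hs φ _ x

/-- The criterion: observability follows from inverting the characters of semi-invariants. -/
theorem isObservableIn_of_inverse [IsAffine G.left] [Smooth G.hom] [IsClosedImmersion i.left]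
    (hinv : ∀ (f : Γ(G.left, ⊤)) (c : Γ(H.left, ⊤)), Semi i f c → algPt (1 : VecGrp.pt k k ⟶ G) f = 1 →
      ∃ (m : ℕ) (f' : Γ(G.left, ⊤)) (c' : Γ(H.left, ⊤)), 0 < m ∧ c' * c ^ m = 1 ∧ Semi i f' c' ∧
        algPt (1 : VecGrp.pt k k ⟶ G) f' = 1) :
    AGF.IsObservableIn k i := by
  classical
  haveI : IsAffine H.left := isAffine_of_isAffineHom i.left
  haveI : IsLocallyNoetherian G.left := LocallyOfFiniteType.isLocallyNoetherian G.hom
  haveI : IsNoetherianRing Γ(G.left, ⊤) := IsLocallyNoetherian.component_noetherian ⟨⊤, isAffineOpen_top _⟩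
  obtain ⟨S, hS⟩ := IsNoetherian.noetherian (RingHom.ker i.left.appTop.hom)
  obtain ⟨F, -, hF⟩ := exists_frame (i := i) S
  obtain ⟨m, w₀, c', hm, hc', hw₀, hw₀1⟩ := hinv _ _ (F.semi_minor Sum.inl) F.minor_one_inl
  let w := w₀ * F.minor Sum.inl ^ (m - 1)
  have hw : Semi i w (c' * F.wt ^ (m - 1)) := hw₀.mul ((F.semi_minor Sum.inl).pow _)
  have hinvar : ∀ sel, AGF.IsRTransInv i (F.minor sel * w) := fun sel => by
    refine invariant_of_semi i _ ?_
    have h := (F.semi_minor sel).mul hw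
    rwa [show F.wt * (c' * F.wt ^ (m - 1)) = 1 by
      rw [← hc', ← Nat.sub_add_cancel hm, pow_succ]; simp; ring] at h
  intro g hg
  have hval : ∀ sel, algPt g (F.minor sel) * algPt g w = algPt (1 : VecGrp.pt k k ⟶ G) (F.minor sel) := fun sel => by
    have h1 := S11199.universal_of_invariant g _ (hg _ (hinvar sel)) (1 : VecGrp.pt k k ⟶ G)
    rw [_root_.one_mul, show VecGrp.ptMap (Algebra.ofId k k) ≫ g = g from pt_eq _ _ fun x => by
      rw [algPt_ptMap]; rfl, map_mul (algPt g) (F.minor sel) w, map_mul (algPt (1 : VecGrp.pt k k ⟶ G)) (F.minor sel) w] at h1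
    refine h1.trans ?_
    simp only [w, map_mul, map_pow, F.minor_one_inl, hw₀1, one_pow, _root_.mul_one]
  have h0 : algPt g (F.minor Sum.inl) ≠ 0 := fun h => by
    have := hval Sum.inl
    rw [h, zero_mul, F.minor_one_inl] at this
    exact zero_ne_one this
  have hwg : algPt g w ≠ 0 := fun h => by
    have := hval Sum.inl
    rw [h, mul_zero, F.minor_one_inl] at this
    exact zero_ne_one this
  have hc : ∀ r l, algPt g (F.M (Sum.inr r) (Sum.inl l)) = 0 := F.corner_of_minors g h0 fun l₀ r => by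
    have := hval (F.rowsel l₀ r)
    rw [F.minor_one_rowsel] at this
    exact (mul_eq_zero.1 this).resolve_right hwg
  refine exists_pt_of_ker g fun x hx => ?_
  have hβ : ∀ l, algPt g (F.β (Sum.inl l)) = 0 := fun l => by
    have h1 := F.expand k 1 g (Sum.inl l)
    rw [_root_.one_mul] at h1
    rw [h1, Fintype.sum_sum_type]
    simp [hc, algPt_one_comp (i := i), F.beta_inl]
  have hmem : x ∈ Ideal.span (S : Set Γ(G.left, ⊤)) := by
    rw [show Ideal.span (S : Set Γ(G.left, ⊤)) = RingHom.ker i.left.appTop.hom from hS]; exact hx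
  refine RingHom.mem_ker.1 ((Ideal.span_le (I := RingHom.ker (algPt g))).2 (fun z hz => ?_) hmem)
  have hzk : i.left.appTop z = 0 := by
    have : z ∈ RingHom.ker i.left.appTop.hom := hS ▸ Submodule.subset_span hz
    exact this
  obtain ⟨a, rfl⟩ := hF z hz hzk
  show algPt g _ = 0
  simp [hβ]

/-- The weight of a semi-invariant vector gives a semi-invariant function. -/
theorem exists_semi_of_vector [IsAffine G.left] {V : Type u} [AddCommGroup V] [Module k V] (ρ : VecGrp.GMod G V) (v : V)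
    (hv : v ≠ 0) (c : Γ(H.left, ⊤))
    (h : ∀ (B : Type u) [CommRing B] [Algebra k B] (h : VecGrp.pt k B ⟶ H),
      ρ.ρ B (h ≫ i) ((1 : B) ⊗ₜ[k] v) = algPt h c • ((1 : B) ⊗ₜ[k] v)) :
    ∃ f : Γ(G.left, ⊤), Semi i f c ∧ algPt (1 : VecGrp.pt k k ⟶ G) f = 1 := by
  obtain ⟨lam, hlam⟩ : ∃ lam : V →ₗ[k] k, lam v = 1 := by
    obtain ⟨f, hf⟩ := LinearMap.exists_extend_of_notMem (p := (⊥ : Submodule k V)) 0
      (show v ∉ (⊥ : Submodule k V) by simpa using hv) (1 : k)
    exact ⟨f, hf.2⟩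
  obtain ⟨F, hF⟩ := exists_coeff G V ρ v
  refine ⟨F lam, fun B _ _ t hh => ?_, ?_⟩
  · rw [hF, hF, map_mul, LinearEquiv.mul_apply, h B hh, map_smul, S11234.rid_lTensor_smul, mul_comm]
  · rw [hF, map_one]
    show TensorProduct.rid k k (lam.lTensor k ((1 : k) ⊗ₜ[k] v)) = 1
    simp [hlam]

omit [IsMonHom i] in
/-- A nonzero semi-invariant function spans a semi-invariant vector of a finite-dimensional module. -/
theorem exists_vector_of_semi [IsAffine G.left] [Smooth G.hom] {f : Γ(G.left, ⊤)} {c : Γ(H.left, ⊤)}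
    (hf : Semi i f c) (hf0 : f ≠ 0) :
    ∃ (V : Type u) (_ : AddCommGroup V) (_ : Module k V) (_ : Module.Finite k V) (ρ : VecGrp.GMod G V) (v : V), v ≠ 0 ∧
      ∀ (B : Type u) [CommRing B] [Algebra k B] (h : VecGrp.pt k B ⟶ H),
        ρ.ρ B (h ≫ i) ((1 : B) ⊗ₜ[k] v) = algPt h c • ((1 : B) ⊗ₜ[k] v) := by
  letI := gAlg G
  obtain ⟨uG, ρ, hu, hρ⟩ := S11234.exists_regular G
  obtain ⟨N, hfN, hN, hst⟩ := Groth.Agent.CommAlg4.GModStab.exists_stable_of_noetherian ρ
    (Submodule.span k {f}) (Submodule.fg_span_singleton f)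
  haveI : Module.Finite k N := Module.Finite.iff_fg.2 hN
  obtain ⟨σ, hσ⟩ := S11188.exists_restrict_rep ρ N hst
  refine ⟨N, inferInstance, inferInstance, inferInstance, σ, ⟨f, hfN (Submodule.subset_span rfl)⟩,
    fun h => hf0 (congrArg Subtype.val h), fun B _ _ h => ?_⟩
  apply Module.Flat.lTensor_preserves_injective_linearMap (M := B) N.subtype (Submodule.injective_subtype N)
  show N.subtype.baseChange B _ = N.subtype.baseChange B _
  rw [hσ, map_smul, LinearMap.baseChange_tmul, Submodule.subtype_apply, hρ, ← Category.assoc, hf, algPt_ptMap, hu,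
    algPt_ptMap]
  simp [TensorProduct.smul_tmul']

end Groth.Agent.AGF12

end
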