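import Groth.Agent.S11190
import Groth.Agent.AGF12.Inverse
import Groth.Agent.CommAlg4.GModStable

/-!
# Restriction of invariant functions to an observable subgroup is surjective
-/

set_option autoImplicit false
set_option backward.isDefEq.respectTransparency false
set_option backward.isDefEq.respectTransparency.types false

universe u

open CategoryTheory MonoidalCategory CartesianMonoidalCategory MonObj GrpObj AlgebraicGeometry
open scoped TensorProduct
open Groth.Agent.CommAlg4.AffPt Groth.Agent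

noncomputable section

namespace Groth.Agent.AGF12

variable {k : Type u} [Field k] [IsAlgClosed k]
variable {G H K : Over (Spec (CommRingCat.of k))} [GrpObj G] [GrpObj H] [GrpObj K]
  [IsAffine G.left] [Smooth G.hom] [Smooth H.hom] [IsAffine K.left] [Smooth K.hom]

theorem exists_invariant_lift (i : H ⟶ G) [IsMonHom i] [IsClosedImmersion i.left] (κ : K ⟶ H) [IsMonHom κ]
    (hobs : AGF.IsObservableIn k i) (f : Γ(H.left, ⊤)) (hf : AGF.IsRTransInv κ f) :
    ∃ F : Γ(G.left, ⊤), AGF.IsRTransInv (κ ≫ i) F ∧ i.left.appTop F = f := by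
  classical
  haveI : IsAffine H.left := isAffine_of_isAffineHom i.left
  haveI : AlgebraicGeometry.IsReduced H.left := WeilLib.isReduced_of_smooth H.hom
  letI := gAlg H
  obtain ⟨uH, ρ, hu, hρ⟩ := S11234.exists_regular H
  obtain ⟨N, hfN, hN, hst⟩ := Groth.Agent.CommAlg4.GModStab.exists_stable_of_noetherian ρ
    (Submodule.span k {f}) (Submodule.fg_span (Set.finite_singleton f))
  haveI : Module.Finite k N := Module.Finite.iff_fg.2 hN
  obtain ⟨σ, hσ⟩ := S11188.exists_restrict_rep ρ N hst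
  obtain ⟨W, _, _, _, ρW, ψ, hψ, hψeq⟩ := (Groth.Agent.S11190.result k G H i).1 hobs N σ
  obtain ⟨P, hP⟩ := LinearMap.exists_leftInverse_of_injective ψ (LinearMap.ker_eq_bot.2 hψ)
  obtain ⟨ε, hε⟩ := exists_algHom (1 : VecGrp.pt k k ⟶ H)
  let v : N := ⟨f, hfN (Submodule.subset_span rfl)⟩
  let lam : W →ₗ[k] k := ε.toLinearMap ∘ₗ N.subtype ∘ₗ P
  obtain ⟨Fc, hFc⟩ := exists_coeff G W ρW (ψ v)
  have hlid : ∀ (z : k ⊗[k] N), TensorProduct.rid k k (lam.lTensor k (ψ.baseChange k z)) =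
      ε (TensorProduct.lid k Γ(H.left, ⊤) (N.subtype.baseChange k z)) := fun z => by
    induction z using TensorProduct.induction_on with
    | zero => simp
    | tmul a x =>
      simp [lam, show P (ψ x) = x from LinearMap.congr_fun hP x, mul_comm]
    | add p q hp hq => simp only [map_add, hp, hq]
  have hval : ∀ h : VecGrp.pt k k ⟶ H, algPt (h ≫ i) (Fc lam) = algPt h f := fun h => by
    rw [hFc, show (1 : k) ⊗ₜ[k] ψ v = ψ.baseChange k ((1 : k) ⊗ₜ[k] v) by simp, ← hψeq, hlid, hσ, LinearMap.baseChange_tmul]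
    show ε (TensorProduct.lid k Γ(H.left, ⊤) (ρ.ρ k h ((1 : k) ⊗ₜ[k] f))) = _
    let Ψ : k ⊗[k] Γ(H.left, ⊤) →ₐ[k] k := Algebra.TensorProduct.productMap (AlgHom.id k k) ε
    have key : ∀ z : k ⊗[k] Γ(H.left, ⊤), Ψ z = ε (TensorProduct.lid k Γ(H.left, ⊤) z) := fun z => by
      induction z using TensorProduct.induction_on with
      | zero => simp
      | tmul a y => simp [Ψ]
      | add a b ha hb => rw [map_add, map_add, map_add, ha, hb]
    rw [← key, hρ, ← algPt_ptMap Ψ, MonObj.comp_mul]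
    have e1 : VecGrp.ptMap Ψ ≫ VecGrp.ptMap (Algebra.TensorProduct.includeRight : Γ(H.left, ⊤) →ₐ[k] k ⊗[k] Γ(H.left, ⊤)) ≫ uH = 1 :=
      pt_eq _ _ fun y => by rw [algPt_ptMap, algPt_ptMap, hu, ← hε]; simp [Ψ]
    have e2 : VecGrp.ptMap Ψ ≫ VecGrp.ptMap (Algebra.TensorProduct.includeLeft : k →ₐ[k] k ⊗[k] Γ(H.left, ⊤)) ≫ h = h :=
      pt_eq _ _ fun y => by rw [algPt_ptMap, algPt_ptMap]; simp [Ψ]
    rw [e1, e2, _root_.one_mul]
  refine ⟨Fc lam, ?_, sub_eq_zero.1 (S11188.eq_zero_of_pts H _ fun h => ?_)⟩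
  · refine invariant_of_semi (κ ≫ i) _ fun B _ _ t x => ?_
    rw [map_one, _root_.mul_one, hFc, hFc, map_mul, LinearEquiv.mul_apply,
      show x ≫ κ ≫ i = (x ≫ κ) ≫ i from (Category.assoc _ _ _).symm,
      show (1 : B) ⊗ₜ[k] ψ v = ψ.baseChange B ((1 : B) ⊗ₜ[k] v) by simp, ← hψeq]
    suffices hfix : σ.ρ B (x ≫ κ) ((1 : B) ⊗ₜ[k] v) = (1 : B) ⊗ₜ[k] v by rw [hfix]
    have hinj : Function.Injective (N.subtype.baseChange B) :=
      Module.Flat.lTensor_preserves_injective_linearMap N.subtype (Submodule.injective_subtype N)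
    refine hinj ?_
    rw [hσ, LinearMap.baseChange_tmul]
    show ρ.ρ B (x ≫ κ) ((1 : B) ⊗ₜ[k] f) = (1 : B) ⊗ₜ[k] f
    rw [hρ, ← Category.assoc, S11234.algPt_mul_of_invariant κ f hf, algPt_ptMap, hu, Algebra.TensorProduct.includeRight_apply]
  · rw [map_sub, ← algPt_comp, hval, sub_self]

theorem subringFG_restrict (i : H ⟶ G) [IsMonHom i] [IsClosedImmersion i.left] (κ : K ⟶ H) [IsMonHom κ]
    (hobs : AGF.IsObservableIn k i) (hfg : AGF.SubringFGOver k G (AGF.rTransInv (κ ≫ i))) :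
    AGF.SubringFGOver k H (AGF.rTransInv κ) := by
  classical
  haveI : IsAffine H.left := isAffine_of_isAffineHom i.left
  obtain ⟨s, hs, hle⟩ := hfg
  have hc : ∀ c : k, i.left.appTop (G.hom.appTop ((Scheme.ΓSpecIso (CommRingCat.of k)).inv c)) =
      H.hom.appTop ((Scheme.ΓSpecIso (CommRingCat.of k)).inv c) := fun c => by
    conv_rhs => rw [← Over.w i, Scheme.Hom.comp_appTop]
    rfl
  refine ⟨s.image i.left.appTop, fun y hy => ?_, fun f hf => ?_⟩
  · obtain ⟨x, hx, rfl⟩ := Finset.mem_image.1 hy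
    refine invariant_of_semi κ _ fun B _ _ t h => ?_
    rw [map_one, _root_.mul_one, ← algPt_comp, ← algPt_comp, MonObj.mul_comp, Category.assoc,
      S11234.algPt_mul_of_invariant (κ ≫ i) x (hs hx)]
  · obtain ⟨F, hF, rfl⟩ := exists_invariant_lift i κ hobs f hf
    have h1 : i.left.appTop F ∈ Subring.map i.left.appTop.hom (Subring.closure
        (Set.range (fun c : k => G.hom.appTop ((Scheme.ΓSpecIso (CommRingCat.of k)).inv c)) ∪ ↑s)) :=
      Subring.mem_map.2 ⟨F, hle hF, rfl⟩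
    rw [RingHom.map_closure] at h1
    refine Subring.closure_mono ?_ h1
    rintro z ⟨w, (⟨c, rfl⟩ | hw), rfl⟩
    · exact Or.inl ⟨c, (hc c).symm⟩
    · exact Or.inr (Finset.mem_coe.2 (Finset.mem_image_of_mem _ hw))

end Groth.Agent.AGF12

end
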