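import Groth.Agent.S11188
import Groth.Agent.SGA3cLib.DiagPoints

/-!
# Semi-invariant functions on a linear algebraic group, and Chevalley frames
-/

set_option autoImplicit false
set_option backward.isDefEq.respectTransparency false
set_option backward.isDefEq.respectTransparency.types false

universe u

open CategoryTheory MonoidalCategory CartesianMonoidalCategory MonObj GrpObj AlgebraicGeometry
open scoped TensorProduct
open Groth.Agent.CommAlg4.AffPt Groth.Agent

noncomputable section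

namespace Groth.Agent.AGF12

variable {k : Type u} [Field k]
variable {G H : Over (Spec (CommRingCat.of k))} [GrpObj G] [GrpObj H] (i : H ⟶ G)

/-- `f(x h) = f(x) c(h)` identically. -/
def Semi (f : Γ(G.left, ⊤)) (c : Γ(H.left, ⊤)) : Prop :=
  ∀ (B : Type u) [CommRing B] [Algebra k B] (t : VecGrp.pt k B ⟶ G) (h : VecGrp.pt k B ⟶ H),
    algPt (t * (h ≫ i)) f = algPt t f * algPt h c

theorem algPt_appTop_hom {X : Over (Spec (CommRingCat.of k))} {B : Type u} [CommRing B] [Algebra k B]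
    (t : VecGrp.pt k B ⟶ X) (c : k) :
    algPt t (X.hom.appTop ((Scheme.ΓSpecIso (CommRingCat.of k)).inv c)) = algebraMap k B c := by
  letI := gAlg X
  obtain ⟨φ, hφ⟩ := exists_algHom t
  rw [← hφ]
  exact φ.commutes c

theorem semi_of_invariant (f : Γ(G.left, ⊤)) (hf : AGF.IsRTransInv i f) : Semi i f 1 := by
  intro B _ _ t h
  rw [map_one, _root_.mul_one]
  exact S11234.algPt_mul_of_invariant i f hf t h

theorem invariant_of_semi [IsAffine G.left] [IsAffine H.left] (f : Γ(G.left, ⊤)) (hf : Semi i f 1) :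
    AGF.IsRTransInv i f := by
  haveI : IsAffine (G ⊗ H).left := by rw [Over.tensorObj_left]; infer_instance
  letI := gAlg (G ⊗ H)
  obtain ⟨uP, huP⟩ := exists_univ_pt (G ⊗ H)
  have key : algPt (uP ≫ ((G ◁ i) ≫ μ[G])) f = algPt (uP ≫ fst G H) f := by
    have ht : uP ≫ ((G ◁ i) ≫ μ[G]) = (uP ≫ fst G H) * ((uP ≫ snd G H) ≫ i) := by
      rw [Hom.mul_def, ← Category.assoc]
      congr 1
      apply CartesianMonoidalCategory.hom_ext <;> simp [Category.assoc]
    rw [ht, hf, map_one, _root_.mul_one]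
  rw [algPt_comp, algPt_comp, huP, huP] at key
  exact key

variable {i}

theorem Semi.mul {f f' : Γ(G.left, ⊤)} {c c' : Γ(H.left, ⊤)} (h1 : Semi i f c) (h2 : Semi i f' c') :
    Semi i (f * f') (c * c') := by
  intro B _ _ t h
  rw [map_mul, map_mul, map_mul, h1 B t h, h2 B t h]
  ring

theorem semi_one : Semi i (1 : Γ(G.left, ⊤)) (1 : Γ(H.left, ⊤)) := by
  intro B _ _ t h
  simp

theorem Semi.pow {f : Γ(G.left, ⊤)} {c : Γ(H.left, ⊤)} (h1 : Semi i f c) (n : ℕ) : Semi i (f ^ n) (c ^ n) := by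
  induction n with
  | zero => simpa using semi_one (i := i)
  | succ n ih => rw [pow_succ, pow_succ]; exact ih.mul h1

theorem Semi.smul_const {f : Γ(G.left, ⊤)} {c : Γ(H.left, ⊤)} (h1 : Semi i f c) (a : k) :
    Semi i (G.hom.appTop ((Scheme.ΓSpecIso (CommRingCat.of k)).inv a) * f) c := by
  intro B _ _ t h
  rw [map_mul, map_mul, h1 B t h, algPt_appTop_hom, algPt_appTop_hom]
  ring

variable (G) in
/-- Left translation of functions by a rational point. -/
theorem exists_leftTranslate [IsAffine G.left] (g : VecGrp.pt k k ⟶ G) :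
    ∃ τ : Γ(G.left, ⊤) → Γ(G.left, ⊤), ∀ (B : Type u) [CommRing B] [Algebra k B] (t : VecGrp.pt k B ⟶ G) (f : Γ(G.left, ⊤)),
      algPt t (τ f) = algPt ((VecGrp.ptMap (Algebra.ofId k B) ≫ g) * t) f := by
  letI := gAlg G
  obtain ⟨uG, hu⟩ := exists_univ_pt G
  refine ⟨fun f => algPt ((VecGrp.ptMap (Algebra.ofId k Γ(G.left, ⊤)) ≫ g) * uG) f, fun B _ _ t f => ?_⟩
  obtain ⟨φ, hφ⟩ := exists_algHom t
  rw [← hφ, ← algPt_ptMap φ, MonObj.comp_mul]
  refine congrArg (fun z => algPt z f) (congrArg₂ (fun a b => a * b) ?_ ?_)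
  · rw [← Category.assoc]
    refine pt_eq _ _ fun x => ?_
    rw [Category.assoc, algPt_ptMap, algPt_ptMap, algPt_ptMap]
    exact φ.commutes _
  · exact pt_eq _ _ fun x => by rw [algPt_ptMap, hu, hφ]

theorem Semi.translate {f : Γ(G.left, ⊤)} {c : Γ(H.left, ⊤)} (h1 : Semi i f c) {g : VecGrp.pt k k ⟶ G}
    {τ : Γ(G.left, ⊤) → Γ(G.left, ⊤)}
    (hτ : ∀ (B : Type u) [CommRing B] [Algebra k B] (t : VecGrp.pt k B ⟶ G) (f : Γ(G.left, ⊤)),
      algPt t (τ f) = algPt ((VecGrp.ptMap (Algebra.ofId k B) ≫ g) * t) f) :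
    Semi i (τ f) c := by
  intro B _ _ t h
  rw [hτ, hτ, ← _root_.mul_assoc, h1]

/-- A nonzero semi-invariant has a translate which is `1` at the identity. -/
theorem Semi.exists_normalised [IsAlgClosed k] [IsAffine G.left] [LocallyOfFiniteType G.hom] [IsReduced G.left]
    {f : Γ(G.left, ⊤)} {c : Γ(H.left, ⊤)} (h1 : Semi i f c) (hf : f ≠ 0) :
    ∃ f' : Γ(G.left, ⊤), Semi i f' c ∧ algPt (1 : VecGrp.pt k k ⟶ G) f' = 1 := by
  obtain ⟨g, hg⟩ : ∃ g : VecGrp.pt k k ⟶ G, algPt g f ≠ 0 := by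
    by_contra hc
    push_neg at hc
    exact hf (S11188.eq_zero_of_pts G f hc)
  obtain ⟨τ, hτ⟩ := exists_leftTranslate G g
  refine ⟨G.hom.appTop ((Scheme.ΓSpecIso (CommRingCat.of k)).inv (algPt g f)⁻¹) * τ f, (h1.translate hτ).smul_const _, ?_⟩
  rw [map_mul, algPt_appTop_hom, Algebra.algebraMap_self_apply, hτ, _root_.mul_one,
    show VecGrp.ptMap (Algebra.ofId k k) ≫ g = g from pt_eq _ _ fun x => by rw [algPt_ptMap]; rfl]
  exact inv_mul_cancel₀ hg

/-- A matrix of functions adapted to a closed subgroup. -/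
structure Frame (i : H ⟶ G) where
  d : ℕ
  e : ℕ
  M : Matrix (Fin d ⊕ Fin e) (Fin d ⊕ Fin e) Γ(G.left, ⊤)
  β : Fin d ⊕ Fin e → Γ(G.left, ⊤)
  mat_mul : ∀ (B : Type u) [CommRing B] [Algebra k B] (t t' : VecGrp.pt k B ⟶ G),
    M.map (algPt (t * t')) = M.map (algPt t) * M.map (algPt t')
  mat_one : ∀ (B : Type u) [CommRing B] [Algebra k B], M.map (algPt (1 : VecGrp.pt k B ⟶ G)) = 1
  expand : ∀ (B : Type u) [CommRing B] [Algebra k B] (t t' : VecGrp.pt k B ⟶ G) (s : Fin d ⊕ Fin e),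
    algPt (t * t') (β s) = ∑ r, algPt t (β r) * algPt t' (M r s)
  corner : ∀ (B : Type u) [CommRing B] [Algebra k B] (h : VecGrp.pt k B ⟶ H) (r : Fin e) (l : Fin d),
    algPt (h ≫ i) (M (Sum.inr r) (Sum.inl l)) = 0
  beta_inl : ∀ l, i.left.appTop (β (Sum.inl l)) = 0
  beta_inr : ∀ a : Fin e → k,
    ∑ r, H.hom.appTop ((Scheme.ΓSpecIso (CommRingCat.of k)).inv (a r)) * i.left.appTop (β (Sum.inr r)) = 0 → a = 0

omit [GrpObj G] [GrpObj H] in
/-- Linear independence survives extension of scalars. -/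
theorem coeff_eq_zero {B F : Type u} [CommRing B] [Algebra k B] [AddCommGroup F] [Module k F] {e : ℕ} (y : Fin e → F)
    (hy : LinearIndependent k y) (b : Fin e → B) (h : ∑ r, b r • ((1 : B) ⊗ₜ[k] y r) = 0) : b = 0 := by
  classical
  have hJ : Function.Injective (Fintype.linearCombination k y) :=
    LinearMap.ker_eq_bot.1 ((Submodule.eq_bot_iff _).2 fun x hx => funext fun r => Fintype.linearIndependent_iff.1 hy x
      (by simpa [Fintype.linearCombination_apply] using LinearMap.mem_ker.1 hx) r)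
  have hJB : Function.Injective ((Fintype.linearCombination k y).baseChange B) :=
    Module.Flat.lTensor_preserves_injective_linearMap (Fintype.linearCombination k y) hJ
  have h2 : (Fintype.linearCombination k y).baseChange B (∑ r, b r • ((1 : B) ⊗ₜ[k] (Pi.single r (1 : k) : Fin e → k))) = 0 := by
    rw [map_sum, ← h]
    refine Finset.sum_congr rfl fun r _ => ?_
    rw [map_smul, LinearMap.baseChange_tmul, Fintype.linearCombination_apply_single, one_smul]
  have h3 := congrArg (TensorProduct.piScalarRight k B B (Fin e)) (hJB (h2.trans (map_zero _).symm))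
  funext r
  have h4 := congrFun h3 r
  rw [map_zero, map_sum] at h4
  simpa [Finset.sum_apply, Pi.single_apply] using h4

omit [GrpObj G] [GrpObj H] in
theorem linearIndependent_compl {M F : Type u} [AddCommGroup M] [Module k M] [AddCommGroup F] [Module k F] (f : M →ₗ[k] F)
    {C : Submodule k M} (hC : IsCompl (LinearMap.ker f) C) {J0 : Type*} {v : J0 → C} (hv : LinearIndependent k v) :
    LinearIndependent k (fun j => f (v j : M)) :=
  hv.map' (f ∘ₗ C.subtype) (LinearMap.ker_eq_bot.2 fun x y hxy => Subtype.ext (sub_eq_zero.1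
    (Submodule.disjoint_def.1 hC.disjoint _ (LinearMap.mem_ker.2 (by
      rw [map_sub, sub_eq_zero]; exact hxy)) (C.sub_mem x.2 y.2))))

omit [GrpObj H] in
theorem exists_coord_basis {J0 : Type} [Fintype J0] (N : letI := gAlg G; Submodule k Γ(G.left, ⊤))
    (b : letI := gAlg G; Module.Basis J0 k N) (f : Γ(G.left, ⊤)) (hf : letI := gAlg G; f ∈ N) :
    ∃ a : J0 → k, f = ∑ s, G.hom.appTop ((Scheme.ΓSpecIso (CommRingCat.of k)).inv (a s)) *
      (letI := gAlg G; (b s : Γ(G.left, ⊤))) := by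
  letI := gAlg G
  refine ⟨fun s => b.repr ⟨f, hf⟩ s, ?_⟩
  have h1 := congrArg Subtype.val (b.sum_repr ⟨f, hf⟩).symm
  rw [Submodule.coe_sum] at h1
  refine h1.trans (Finset.sum_congr rfl fun s _ => ?_)
  rw [Submodule.coe_smul, Algebra.smul_def]
  rfl

omit [GrpObj H] in
theorem exists_coord_basis₂ {J0 : Type} [Fintype J0] (N : letI := gAlg G; Submodule k Γ(G.left, ⊤))
    (U : letI := gAlg G; Submodule k N) (b : letI := gAlg G; Module.Basis J0 k U) (β : J0 → Γ(G.left, ⊤))
    (hβ : letI := gAlg G; ∀ l, β l = ((b l : N) : Γ(G.left, ⊤)))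
    (f : Γ(G.left, ⊤)) (hf : letI := gAlg G; f ∈ N) (hfU : letI := gAlg G; (⟨f, hf⟩ : N) ∈ U) :
    ∃ a : J0 → k, f = ∑ s, G.hom.appTop ((Scheme.ΓSpecIso (CommRingCat.of k)).inv (a s)) * β s := by
  letI := gAlg G
  refine ⟨fun l => b.repr ⟨_, hfU⟩ l, ?_⟩
  have h1 := congrArg (fun z : U => ((z : N) : Γ(G.left, ⊤))) (b.sum_repr ⟨_, hfU⟩).symm
  simp only [Submodule.coe_sum] at h1
  refine h1.trans (Finset.sum_congr rfl fun l _ => ?_)
  rw [Submodule.coe_smul, Submodule.coe_smul, Algebra.smul_def, hβ]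
  rfl

/-- Functions killing `H`, expanded along a family independent on `H`, give a vanishing corner. -/
theorem corner_eq_zero [IsMonHom i] [IsAffine H.left] {d e : ℕ} (β : Fin d ⊕ Fin e → Γ(G.left, ⊤))
    (M : Fin d ⊕ Fin e → Γ(G.left, ⊤)) (f : Γ(G.left, ⊤)) (hf : i.left.appTop f = 0)
    (hexp : ∀ (B : Type u) [CommRing B] [Algebra k B] (t t' : VecGrp.pt k B ⟶ G),
      algPt (t * t') f = ∑ r, algPt t (β r) * algPt t' (M r))
    (hl : ∀ l, i.left.appTop (β (Sum.inl l)) = 0)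
    (hli : letI := gAlg H; LinearIndependent k (fun r => i.left.appTop (β (Sum.inr r))))
    (B : Type u) [CommRing B] [Algebra k B] (h : VecGrp.pt k B ⟶ H) (r : Fin e) :
    algPt (h ≫ i) (M (Sum.inr r)) = 0 := by
  letI := gAlg H
  obtain ⟨uH, hu⟩ := exists_univ_pt H
  let R' : VecGrp.pt k (B ⊗[k] Γ(H.left, ⊤)) ⟶ H :=
    VecGrp.ptMap (Algebra.TensorProduct.includeRight : Γ(H.left, ⊤) →ₐ[k] B ⊗[k] Γ(H.left, ⊤)) ≫ uH
  let L' : VecGrp.pt k (B ⊗[k] Γ(H.left, ⊤)) ⟶ H :=
    VecGrp.ptMap (Algebra.TensorProduct.includeLeft : B →ₐ[k] B ⊗[k] Γ(H.left, ⊤)) ≫ h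
  have hR : ∀ x : Γ(G.left, ⊤), algPt (R' ≫ i) x = (1 : B) ⊗ₜ[k] i.left.appTop x := fun x => by
    rw [algPt_comp, algPt_ptMap, hu]; rfl
  have hL : ∀ x : Γ(G.left, ⊤), algPt (L' ≫ i) x = algPt (h ≫ i) x ⊗ₜ[k] (1 : Γ(H.left, ⊤)) := fun x => by
    rw [algPt_comp, algPt_ptMap, algPt_comp]; rfl
  have h1 := hexp _ (R' ≫ i) (L' ≫ i)
  rw [← MonObj.mul_comp, algPt_comp, hf, map_zero, Fintype.sum_sum_type] at h1
  simp only [hR, hL, hl, TensorProduct.tmul_zero, zero_mul, Finset.sum_const_zero, zero_add,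
    Algebra.TensorProduct.tmul_mul_tmul, _root_.one_mul, _root_.mul_one] at h1
  refine congrFun (coeff_eq_zero (fun r => i.left.appTop (β (Sum.inr r))) hli (fun r' => algPt (h ≫ i) (M (Sum.inr r'))) ?_) r
  rw [h1]
  refine Finset.sum_congr rfl fun r' _ => ?_
  rw [TensorProduct.smul_tmul', smul_eq_mul, _root_.mul_one]

theorem exists_frame [IsMonHom i] [IsAffine G.left] [Smooth G.hom] [IsAffine H.left] (S : Finset Γ(G.left, ⊤)) :
    ∃ F : Frame i,
      (∀ f ∈ S, ∃ a : Fin F.d ⊕ Fin F.e → k,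
        f = ∑ s, G.hom.appTop ((Scheme.ΓSpecIso (CommRingCat.of k)).inv (a s)) * F.β s) ∧
      ∀ f ∈ S, i.left.appTop f = 0 → ∃ a : Fin F.d → k,
        f = ∑ l, G.hom.appTop ((Scheme.ΓSpecIso (CommRingCat.of k)).inv (a l)) * F.β (Sum.inl l) := by
  classical
  letI := gAlg G
  letI := gAlg H
  obtain ⟨uG, ρ, hu, hρ⟩ := S11234.exists_regular G
  obtain ⟨N, hSN, hN, hst⟩ := Groth.Agent.CommAlg4.GModStab.exists_stable_of_noetherian ρ
    (Submodule.span k (S : Set Γ(G.left, ⊤))) (Submodule.fg_span S.finite_toSet)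
  haveI : Module.Finite k N := Module.Finite.iff_fg.2 hN
  obtain ⟨uH, huH⟩ := exists_univ_pt H
  obtain ⟨iA, hiA⟩ := exists_algHom (Z := G) (uH ≫ i)
  have hiA' : ∀ f, iA f = i.left.appTop f := fun f => by rw [hiA, algPt_comp, huH]
  let U : Submodule k N := LinearMap.ker (iA.toLinearMap ∘ₗ N.subtype)
  obtain ⟨C, hC⟩ := U.exists_isCompl
  haveI : Module.Free k U := Module.Free.of_divisionRing k U
  haveI : Module.Free k C := Module.Free.of_divisionRing k C
  let b : Module.Basis (Fin (Module.finrank k U) ⊕ Fin (Module.finrank k C)) k N :=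
    ((Module.finBasis k U).prod (Module.finBasis k C)).map (Submodule.prodEquivOfIsCompl U C hC)
  have hbl : ∀ l, b (Sum.inl l) = (Module.finBasis k U l : N) := fun l => by
    simp [b, Submodule.coe_prodEquivOfIsCompl']
  have hbr : ∀ r, b (Sum.inr r) = (Module.finBasis k C r : N) := fun r => by
    simp [b, Submodule.coe_prodEquivOfIsCompl']
  let β : Fin (Module.finrank k U) ⊕ Fin (Module.finrank k C) → Γ(G.left, ⊤) := fun s => (b s : Γ(G.left, ⊤))
  obtain ⟨P, hP⟩ := LinearMap.exists_leftInverse_of_injective N.subtype (Submodule.ker_subtype N)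
  let c : Fin (Module.finrank k U) ⊕ Fin (Module.finrank k C) → Γ(G.left, ⊤) →ₗ[k] k := fun s => b.coord s ∘ₗ P
  have hc : ∀ s (x : N), c s (x : Γ(G.left, ⊤)) = b.repr x s := fun s x => by
    show b.coord s (P (N.subtype x)) = _
    rw [show P (N.subtype x) = x from LinearMap.congr_fun hP x]
    rfl
  choose Fc hFc using fun s => exists_coeff G Γ(G.left, ⊤) ρ (β s)
  let M : Matrix (Fin (Module.finrank k U) ⊕ Fin (Module.finrank k C)) (Fin (Module.finrank k U) ⊕ Fin (Module.finrank k C))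
      Γ(G.left, ⊤) := Matrix.of fun r s => Fc s (c r)
  have hexp : ∀ (B : Type u) [CommRing B] [Algebra k B] (t : VecGrp.pt k B ⟶ G) (s),
      ρ.ρ B t ((1 : B) ⊗ₜ[k] β s) = ∑ r, algPt t (M r s) • ((1 : B) ⊗ₜ[k] β r) := by
    intro B _ _ t s
    have hz := hst B t _ (b s).2
    obtain ⟨w, hw⟩ := hz
    have key : ∀ w : B ⊗[k] N, N.subtype.baseChange B w =
        ∑ r, TensorProduct.rid k B ((c r).lTensor B (N.subtype.baseChange B w)) • ((1 : B) ⊗ₜ[k] β r) := by
      intro w
      induction w using TensorProduct.induction_on with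
      | zero => simp
      | tmul a x =>
        simp only [LinearMap.baseChange_tmul, Submodule.subtype_apply, LinearMap.lTensor_tmul, TensorProduct.rid_tmul, hc,
          TensorProduct.smul_tmul', smul_eq_mul, _root_.mul_one]
        conv_lhs => rw [← b.sum_repr x]
        simp only [Submodule.coe_sum, Submodule.coe_smul, TensorProduct.tmul_sum, TensorProduct.tmul_smul]
        rfl
      | add p q hp hq =>
        simp only [map_add, add_smul, Finset.sum_add_distrib]
        rw [← hp, ← hq]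
    have h1 := key w
    rw [hw] at h1
    refine h1.trans (Finset.sum_congr rfl fun r _ => ?_)
    rw [show algPt t (M r s) = _ from hFc s B t (c r)]
  have hcβ : ∀ r s, c r (β s) = if r = s then 1 else 0 := fun r s => by
    rw [show c r (β s) = b.repr (b s) r from hc r (b s), Module.Basis.repr_self, Finsupp.single_apply]
    by_cases h : r = s
    · simp [h]
    · simp [h, Ne.symm h]
  have hexpand : ∀ (B : Type u) [CommRing B] [Algebra k B] (t t' : VecGrp.pt k B ⟶ G) (s),
      algPt (t * t') (β s) = ∑ r, algPt t (β r) * algPt t' (M r s) := by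
    intro B _ _ t t' s
    obtain ⟨φ, hφ⟩ := exists_algHom t
    let ψ : B ⊗[k] Γ(G.left, ⊤) →ₐ[k] B := Algebra.TensorProduct.productMap (AlgHom.id k B) φ
    have h1 := congrArg ψ (hexp B t' s)
    rw [hρ, ← algPt_ptMap ψ, MonObj.comp_mul, map_sum] at h1
    have e1 : VecGrp.ptMap ψ ≫ VecGrp.ptMap (Algebra.TensorProduct.includeRight : Γ(G.left, ⊤) →ₐ[k] B ⊗[k] Γ(G.left, ⊤)) ≫ uG = t :=
      pt_eq _ _ fun x => by rw [algPt_ptMap, algPt_ptMap, hu]; simp [ψ, hφ]
    have e2 : VecGrp.ptMap ψ ≫ VecGrp.ptMap (Algebra.TensorProduct.includeLeft : B →ₐ[k] B ⊗[k] Γ(G.left, ⊤)) ≫ t' = t' :=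
      pt_eq _ _ fun x => by rw [algPt_ptMap, algPt_ptMap]; simp [ψ]
    rw [e1, e2] at h1
    rw [h1]
    refine Finset.sum_congr rfl fun r _ => ?_
    simp [ψ, hφ, TensorProduct.smul_tmul']
    exact mul_comm _ _
  have hli : LinearIndependent k (fun r => iA (β (Sum.inr r))) := by
    have h := linearIndependent_compl (iA.toLinearMap ∘ₗ N.subtype) hC (Module.finBasis k C).linearIndependent
    have e : (fun r => iA (β (Sum.inr r))) = fun r => (iA.toLinearMap ∘ₗ N.subtype) (Module.finBasis k C r : N) :=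
      funext fun r => congrArg (fun z : N => iA (z : Γ(G.left, ⊤))) (hbr r)
    rw [e]
    exact h
  have hl' : ∀ l, i.left.appTop (β (Sum.inl l)) = 0 := fun l => by
    rw [← hiA']
    show iA (b (Sum.inl l) : Γ(G.left, ⊤)) = 0
    rw [hbl]
    exact LinearMap.mem_ker.1 (Module.finBasis k U l).2
  refine ⟨⟨Module.finrank k U, Module.finrank k C, M, β, ?_, ?_, hexpand, ?_, ?_, ?_⟩, ?_, ?_⟩
  · intro B _ _ t t'
    ext r s
    rw [Matrix.map_apply, show algPt (t * t') (M r s) = _ from hFc s B (t * t') (c r), map_mul, LinearEquiv.mul_apply,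
      hexp B t' s, map_sum, map_sum, map_sum, Matrix.mul_apply]
    refine Finset.sum_congr rfl fun l _ => ?_
    rw [map_smul, S11234.rid_lTensor_smul, ← hFc l B t (c r), mul_comm]
    rfl
  · intro B _ _
    ext r s
    rw [Matrix.map_apply, show algPt (1 : VecGrp.pt k B ⟶ G) (M r s) = _ from hFc s B 1 (c r), map_one]
    show TensorProduct.rid k B ((c r).lTensor B ((1 : B) ⊗ₜ[k] β s)) = _
    rw [LinearMap.lTensor_tmul, TensorProduct.rid_tmul, hcβ, Matrix.one_apply]
    by_cases h : r = s <;> simp [h]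
  · intro B _ _ h r l
    refine corner_eq_zero β (fun r => M r (Sum.inl l)) (β (Sum.inl l)) (hl' l) (fun B _ _ t t' => hexpand B t t' _) hl' ?_ B h r
    simpa only [hiA'] using hli
  · exact hl'
  · intro a ha
    funext r
    refine Fintype.linearIndependent_iff.1 hli a (Eq.trans ?_ ha) r
    refine Finset.sum_congr rfl fun r' _ => ?_
    rw [Algebra.smul_def, hiA']
    rfl
  · intro f hf
    exact exists_coord_basis N b f (hSN (Submodule.subset_span hf))
  · intro f hf hf0
    have hxU : (⟨f, hSN (Submodule.subset_span hf)⟩ : N) ∈ U := LinearMap.mem_ker.2 ((hiA' f).trans hf0)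
    exact exists_coord_basis₂ N U (Module.finBasis k U) (fun l => β (Sum.inl l)) (fun l => congrArg Subtype.val (hbl l))
      f _ hxU

end Groth.Agent.AGF12

end
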