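import Groth.Agent.AGF12.Semi
import Mathlib.RingTheory.Flat.Basic
import Mathlib.RingTheory.TensorProduct.Maps

/-!
# Tensor products of actions by algebra automorphisms; left translation on invariant functions
-/

set_option autoImplicit false
set_option backward.isDefEq.respectTransparency false
set_option backward.isDefEq.respectTransparency.types false

universe u

open CategoryTheory MonoidalCategory CartesianMonoidalCategory MonObj GrpObj AlgebraicGeometry
open scoped TensorProduct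
open Groth.Agent.CommAlg4.AffPt Groth.Agent

noncomputable section

namespace Groth.Agent.AGF12

variable {k : Type u} [Field k]
variable {G H : Over (Spec (CommRingCat.of k))} [GrpObj G] [GrpObj H]

theorem exists_algHom_of_isMult {A : Type u} [CommRing A] [Algebra k A] (ρ : VecGrp.GMod G A) (hρ : ρ.IsMult)
    (B : Type u) [CommRing B] [Algebra k B] (g : VecGrp.pt k B ⟶ G) :
    ∃ φ : B ⊗[k] A →ₐ[B] B ⊗[k] A, ∀ z, φ z = ρ.ρ B g z :=
  ⟨AlgHom.ofLinearMap (ρ.ρ B g).toLinearMap (hρ B g).2 (hρ B g).1, fun _ => rfl⟩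

/-- The diagonal action on a tensor product. -/
theorem exists_tensor_mult {A R : Type u} [CommRing A] [Algebra k A] [CommRing R] [Algebra k R]
    (ρ : VecGrp.GMod G A) (hρ : ρ.IsMult) (σ : VecGrp.GMod G R) (hσ : σ.IsMult) :
    ∃ τ : VecGrp.GMod G (A ⊗[k] R), τ.IsMult ∧ ∀ (B : Type u) [CommRing B] [Algebra k B] (g : VecGrp.pt k B ⟶ G),
      (∀ a : A, τ.ρ B g ((1 : B) ⊗ₜ[k] (a ⊗ₜ[k] (1 : R))) =
        Algebra.TensorProduct.map (AlgHom.id B B) (Algebra.TensorProduct.includeLeft : A →ₐ[k] A ⊗[k] R) (ρ.ρ B g ((1 : B) ⊗ₜ[k] a))) ∧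
      ∀ r : R, τ.ρ B g ((1 : B) ⊗ₜ[k] ((1 : A) ⊗ₜ[k] r)) =
        Algebra.TensorProduct.map (AlgHom.id B B) (Algebra.TensorProduct.includeRight : R →ₐ[k] A ⊗[k] R) (σ.ρ B g ((1 : B) ⊗ₜ[k] r)) := by
  choose fA hfA using fun (B : Type u) (i1 : CommRing B) (i2 : Algebra k B) (g : VecGrp.pt k B ⟶ G) =>
    exists_algHom_of_isMult ρ hρ B g
  choose fR hfR using fun (B : Type u) (i1 : CommRing B) (i2 : Algebra k B) (g : VecGrp.pt k B ⟶ G) =>
    exists_algHom_of_isMult σ hσ B g
  let iA : ∀ (B : Type u) [CommRing B] [Algebra k B], B ⊗[k] A →ₐ[B] B ⊗[k] (A ⊗[k] R) := fun B _ _ =>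
    Algebra.TensorProduct.map (AlgHom.id B B) (Algebra.TensorProduct.includeLeft : A →ₐ[k] A ⊗[k] R)
  let iR : ∀ (B : Type u) [CommRing B] [Algebra k B], B ⊗[k] R →ₐ[B] B ⊗[k] (A ⊗[k] R) := fun B _ _ =>
    Algebra.TensorProduct.map (AlgHom.id B B) (Algebra.TensorProduct.includeRight : R →ₐ[k] A ⊗[k] R)
  let Φ : ∀ (B : Type u) [CommRing B] [Algebra k B] (g : VecGrp.pt k B ⟶ G),
      B ⊗[k] (A ⊗[k] R) →ₐ[B] B ⊗[k] (A ⊗[k] R) := fun B i1 i2 g =>
    Algebra.TensorProduct.lift (Algebra.ofId B (B ⊗[k] (A ⊗[k] R)))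
      (Algebra.TensorProduct.productMap
        (((iA B).restrictScalars k).comp (((fA B i1 i2 g).restrictScalars k).comp Algebra.TensorProduct.includeRight))
        (((iR B).restrictScalars k).comp (((fR B i1 i2 g).restrictScalars k).comp Algebra.TensorProduct.includeRight)))
      (fun _ _ => Commute.all _ _)
  have hΦA : ∀ (B : Type u) [CommRing B] [Algebra k B] (g : VecGrp.pt k B ⟶ G) (z : B ⊗[k] A),
      Φ B g (iA B z) = iA B (fA B _ _ g z) := fun B _ _ g z => by
    induction z using TensorProduct.induction_on with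
    | zero => simp
    | tmul b a =>
      rw [show b ⊗ₜ[k] a = b • ((1 : B) ⊗ₜ[k] a) by rw [TensorProduct.smul_tmul', smul_eq_mul, _root_.mul_one],
        map_smul, map_smul, map_smul, map_smul]
      congr 1
      simp [Φ, iA, iR, ← Algebra.TensorProduct.one_def]
    | add p q hp hq => simp only [map_add, hp, hq]
  have hΦR : ∀ (B : Type u) [CommRing B] [Algebra k B] (g : VecGrp.pt k B ⟶ G) (z : B ⊗[k] R),
      Φ B g (iR B z) = iR B (fR B _ _ g z) := fun B _ _ g z => by
    induction z using TensorProduct.induction_on with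
    | zero => simp
    | tmul b a =>
      rw [show b ⊗ₜ[k] a = b • ((1 : B) ⊗ₜ[k] a) by rw [TensorProduct.smul_tmul', smul_eq_mul, _root_.mul_one],
        map_smul, map_smul, map_smul, map_smul]
      congr 1
      simp [Φ, iA, iR, ← Algebra.TensorProduct.one_def]
    | add p q hp hq => simp only [map_add, hp, hq]
  have hext : ∀ (B : Type u) [CommRing B] [Algebra k B] (T T' : B ⊗[k] (A ⊗[k] R) →ₐ[B] B ⊗[k] (A ⊗[k] R)),
      (∀ z, T (iA B z) = T' (iA B z)) → (∀ z, T (iR B z) = T' (iR B z)) → T = T' := fun B _ _ T T' h1 h2 => by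
    refine Algebra.TensorProduct.ext (AlgHom.ext fun b => ?_) (Algebra.TensorProduct.ext (AlgHom.ext fun a => ?_) (AlgHom.ext fun r => ?_))
    · exact (T.commutes b).trans (T'.commutes b).symm
    · simpa [iA] using h1 ((1 : B) ⊗ₜ[k] a)
    · simpa [iR] using h2 ((1 : B) ⊗ₜ[k] r)
  have hone : ∀ (B : Type u) [CommRing B] [Algebra k B], Φ B 1 = AlgHom.id B _ := fun B _ _ => by
    refine hext B _ _ (fun z => ?_) (fun z => ?_)
    · rw [hΦA, hfA, map_one]; rfl
    · rw [hΦR, hfR, map_one]; rfl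
  have hmul : ∀ (B : Type u) [CommRing B] [Algebra k B] (g g' : VecGrp.pt k B ⟶ G), Φ B (g * g') = (Φ B g).comp (Φ B g') :=
    fun B _ _ g g' => by
      refine hext B _ _ (fun z => ?_) (fun z => ?_)
      · rw [AlgHom.comp_apply, hΦA, hΦA, hΦA, hfA, hfA, hfA, map_mul]; rfl
      · rw [AlgHom.comp_apply, hΦR, hΦR, hΦR, hfR, hfR, hfR, map_mul]; rfl
  let E : ∀ (B : Type u) [CommRing B] [Algebra k B] (g : VecGrp.pt k B ⟶ G),
      (B ⊗[k] (A ⊗[k] R)) ≃ₗ[B] (B ⊗[k] (A ⊗[k] R)) := fun B _ _ g =>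
    (AlgEquiv.ofAlgHom (Φ B g) (Φ B g⁻¹) (by rw [← hmul, mul_inv_cancel, hone]) (by rw [← hmul, inv_mul_cancel, hone])).toLinearEquiv
  have hE : ∀ (B : Type u) [CommRing B] [Algebra k B] (g : VecGrp.pt k B ⟶ G) z, E B g z = Φ B g z := fun B _ _ g z => rfl
  refine ⟨{ ρ := fun B _ _ => MonoidHom.mk' (E B) (fun g g' => LinearEquiv.ext fun z => by
              show Φ B (g * g') z = Φ B g (Φ B g' z)
              rw [hmul]; rfl)
            naturality := fun {B B'} _ _ _ _ φ g z => ?_ }, fun B _ _ g => ⟨fun x y => map_mul (Φ B g) x y, map_one (Φ B g)⟩,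
    fun B _ _ g => ⟨fun a => ?_, fun r => ?_⟩⟩
  · show VecGrp.Wmap φ (Φ B g z) = Φ B' (VecGrp.ptMap φ ≫ g) (VecGrp.Wmap φ z)
    let W : B ⊗[k] (A ⊗[k] R) →ₐ[k] B' ⊗[k] (A ⊗[k] R) := Algebra.TensorProduct.map φ (AlgHom.id k _)
    have hW : ∀ y, VecGrp.Wmap φ y = W y := fun y => by
      induction y using TensorProduct.induction_on with
      | zero => simp
      | tmul b f => simp [W]
      | add p q hp hq => simp only [map_add, hp, hq]
    have hWA : ∀ y : B ⊗[k] A, W (iA B y) = iA B' (VecGrp.Wmap φ y) := fun y => by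
      induction y using TensorProduct.induction_on with
      | zero => simp
      | tmul b f => simp [W, iA]
      | add p q hp hq => simp only [map_add, hp, hq]
    have hWR : ∀ y : B ⊗[k] R, W (iR B y) = iR B' (VecGrp.Wmap φ y) := fun y => by
      induction y using TensorProduct.induction_on with
      | zero => simp
      | tmul b f => simp [W, iR]
      | add p q hp hq => simp only [map_add, hp, hq]
    rw [hW, hW]
    suffices h : W.comp ((Φ B g).restrictScalars k) = ((Φ B' (VecGrp.ptMap φ ≫ g)).restrictScalars k).comp W from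
      congrArg (fun F => F z) h
    refine Algebra.TensorProduct.ext (AlgHom.ext fun b => ?_) (Algebra.TensorProduct.ext (AlgHom.ext fun a => ?_) (AlgHom.ext fun r => ?_))
    · simp only [AlgHom.comp_apply, Algebra.TensorProduct.includeLeft_apply, AlgHom.restrictScalars_apply]
      rw [show Φ B g (b ⊗ₜ[k] (1 : A ⊗[k] R)) = b ⊗ₜ[k] (1 : A ⊗[k] R) from (Φ B g).commutes b]
      simp only [W, Algebra.TensorProduct.map_tmul, map_one]
      exact ((Φ B' (VecGrp.ptMap φ ≫ g)).commutes (φ b)).symm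
    · have h1 := hWA (fA B _ _ g ((1 : B) ⊗ₜ[k] a))
      rw [← hΦA, hfA, ρ.naturality, VecGrp.Wmap_tmul, map_one, ← hfA B' _ _, ← hΦA] at h1
      simpa [W, iA] using h1
    · have h1 := hWR (fR B _ _ g ((1 : B) ⊗ₜ[k] r))
      rw [← hΦR, hfR, σ.naturality, VecGrp.Wmap_tmul, map_one, ← hfR B' _ _, ← hΦR] at h1
      simpa [W, iR] using h1
  · refine Eq.trans ?_ ((hΦA B g ((1 : B) ⊗ₜ[k] a)).trans (congrArg (iA B) (hfA B _ _ g _)))
    show Φ B g _ = Φ B g _
    simp [iA]
  · refine Eq.trans ?_ ((hΦR B g ((1 : B) ⊗ₜ[k] r)).trans (congrArg (iR B) (hfR B _ _ g _)))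
    show Φ B g _ = Φ B g _
    simp [iR]

/-- Left translation on the functions invariant under right translation by a subgroup. -/
theorem exists_left_action [IsAffine G.left] (i : H ⟶ G) [IsMonHom i] (R : letI := gAlg G; Subalgebra k Γ(G.left, ⊤))
    (hR : ∀ f, f ∈ R ↔ AGF.IsRTransInv i f) [IsAffine H.left] :
    letI := gAlg G
    ∃ σ : VecGrp.GMod G R, σ.IsMult ∧ ∀ (B : Type u) [CommRing B] [Algebra k B] (g : VecGrp.pt k B ⟶ G) (r : R)
      (t : VecGrp.pt k B ⟶ G) (φ : Γ(G.left, ⊤) →ₐ[k] B), (∀ x, φ x = algPt t x) →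
        Algebra.TensorProduct.productMap (AlgHom.id k B) (φ.comp R.val) (σ.ρ B g ((1 : B) ⊗ₜ[k] r)) =
          algPt (g⁻¹ * t) (r : Γ(G.left, ⊤)) := by
  letI := gAlg G
  haveI : IsAffine (G ⊗ H).left := by rw [Over.tensorObj_left]; infer_instance
  letI := gAlg (G ⊗ H)
  obtain ⟨uG, hu⟩ := exists_univ_pt G
  obtain ⟨uP, hP⟩ := exists_univ_pt (G ⊗ H)
  choose φL hφL using fun (B : Type u) (i1 : CommRing B) (i2 : Algebra k B) (g : VecGrp.pt k B ⟶ G) =>
    exists_algHom ((VecGrp.ptMap (Algebra.TensorProduct.includeLeft : B →ₐ[k] B ⊗[k] Γ(G.left, ⊤)) ≫ g)⁻¹ *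
      (VecGrp.ptMap (Algebra.TensorProduct.includeRight : Γ(G.left, ⊤) →ₐ[k] B ⊗[k] Γ(G.left, ⊤)) ≫ uG))
  let L : ∀ (B : Type u) [CommRing B] [Algebra k B] (g : VecGrp.pt k B ⟶ G),
      B ⊗[k] Γ(G.left, ⊤) →ₐ[B] B ⊗[k] Γ(G.left, ⊤) := fun B i1 i2 g =>
    Algebra.TensorProduct.lift (Algebra.ofId B _) (φL B i1 i2 g) (fun _ _ => Commute.all _ _)
  have hL : ∀ (B : Type u) [CommRing B] [Algebra k B] (g : VecGrp.pt k B ⟶ G) f, L B g ((1 : B) ⊗ₜ[k] f) =
      algPt ((VecGrp.ptMap (Algebra.TensorProduct.includeLeft : B →ₐ[k] B ⊗[k] Γ(G.left, ⊤)) ≫ g)⁻¹ *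
        (VecGrp.ptMap (Algebra.TensorProduct.includeRight : Γ(G.left, ⊤) →ₐ[k] B ⊗[k] Γ(G.left, ⊤)) ≫ uG)) f := fun B _ _ g f => by
    simp [L, hφL, ← Algebra.TensorProduct.one_def]
  -- value of a translate at a point of `B`
  have hLpt : ∀ (B : Type u) [CommRing B] [Algebra k B] (g : VecGrp.pt k B ⟶ G) (C : Type u) [CommRing C] [Algebra k C]
      (ψ : B ⊗[k] Γ(G.left, ⊤) →ₐ[k] C) f, ψ (L B g ((1 : B) ⊗ₜ[k] f)) =
      algPt ((VecGrp.ptMap (ψ.comp Algebra.TensorProduct.includeLeft) ≫ g)⁻¹ *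
        (VecGrp.ptMap (ψ.comp Algebra.TensorProduct.includeRight) ≫ uG)) f := fun B _ _ g C _ _ ψ f => by
    rw [hL, ← algPt_ptMap ψ, MonObj.comp_mul, GrpObj.comp_inv]
    refine congrArg (fun z => algPt z f) (congrArg₂ (fun a b => a * b) (congrArg (·⁻¹) ?_) ?_)
    · exact pt_eq _ _ fun x => by simp only [algPt_ptMap]; rfl
    · exact pt_eq _ _ fun x => by simp only [algPt_ptMap]; rfl
  obtain ⟨a1, ha1⟩ := exists_algHom (Z := G) (uP ≫ ((G ◁ i) ≫ μ[G]))
  obtain ⟨a2, ha2⟩ := exists_algHom (Z := G) (uP ≫ fst G H)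
  have hker : ∀ f, f ∈ R ↔ f ∈ LinearMap.ker (a1.toLinearMap - a2.toLinearMap) := fun f => by
    rw [hR, LinearMap.mem_ker, LinearMap.sub_apply, sub_eq_zero]
    show _ ↔ a1 f = a2 f
    rw [ha1, ha2, algPt_comp, algPt_comp, hP, hP]
    rfl
  have hP3 : uP ≫ ((G ◁ i) ≫ μ[G]) = (uP ≫ fst G H) * ((uP ≫ snd G H) ≫ i) := by
    rw [Hom.mul_def, ← Category.assoc]
    congr 1
    apply CartesianMonoidalCategory.hom_ext <;> simp [Category.assoc]
  let iR : ∀ (B : Type u) [CommRing B] [Algebra k B], B ⊗[k] R →ₐ[B] B ⊗[k] Γ(G.left, ⊤) := fun B _ _ =>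
    Algebra.TensorProduct.map (AlgHom.id B B) R.val
  have hinj : ∀ (B : Type u) [CommRing B] [Algebra k B], Function.Injective (iR B) := fun B _ _ => by
    have h : Function.Injective (R.val.toLinearMap.baseChange B) :=
      Module.Flat.lTensor_preserves_injective_linearMap _ Subtype.val_injective
    intro x y hxy
    refine h ?_
    have e : ∀ z, R.val.toLinearMap.baseChange B z = iR B z := fun z => by
      induction z using TensorProduct.induction_on with
      | zero => simp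
      | tmul b f => simp [iR]
      | add p q hp hq => simp only [map_add, hp, hq]
    rw [e, e, hxy]
  have hstab : ∀ (B : Type u) [CommRing B] [Algebra k B] (g : VecGrp.pt k B ⟶ G) (z : B ⊗[k] R),
      ∃ w, iR B w = L B g (iR B z) := by
    intro B _ _ g z
    induction z using TensorProduct.induction_on with
    | zero => exact ⟨0, by simp⟩
    | add p q hp hq =>
      obtain ⟨w, hw⟩ := hp; obtain ⟨w', hw'⟩ := hq
      exact ⟨w + w', by simp only [map_add, hw, hw']⟩
    | tmul b r =>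
      let q : Γ(G.left, ⊤) →ₗ[k] Γ((G ⊗ H).left, ⊤) := a1.toLinearMap - a2.toLinearMap
      have hq : q.lTensor B (L B g ((1 : B) ⊗ₜ[k] (r : Γ(G.left, ⊤)))) = 0 := by
        rw [LinearMap.lTensor_sub, LinearMap.sub_apply, sub_eq_zero]
        have e : ∀ (a : Γ(G.left, ⊤) →ₐ[k] Γ((G ⊗ H).left, ⊤)) (y : B ⊗[k] Γ(G.left, ⊤)),
            a.toLinearMap.lTensor B y = Algebra.TensorProduct.map (AlgHom.id k B) a y := fun a y => by
          induction y using TensorProduct.induction_on with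
          | zero => rw [map_zero, map_zero]
          | tmul p f => simp
          | add p q hp hq => simp only [map_add, hp, hq]
        rw [e, e, hLpt, hLpt]
        let j : Γ((G ⊗ H).left, ⊤) →ₐ[k] B ⊗[k] Γ((G ⊗ H).left, ⊤) := Algebra.TensorProduct.includeRight
        have h1 : VecGrp.ptMap ((Algebra.TensorProduct.map (AlgHom.id k B) a1).comp Algebra.TensorProduct.includeRight) ≫ uG =
            (VecGrp.ptMap j ≫ uP ≫ fst G H) * ((VecGrp.ptMap j ≫ uP ≫ snd G H) ≫ i) := by
          rw [show (VecGrp.ptMap j ≫ uP ≫ snd G H) ≫ i = VecGrp.ptMap j ≫ ((uP ≫ snd G H) ≫ i) by simp only [Category.assoc],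
            ← MonObj.comp_mul, ← hP3]
          exact pt_eq _ _ fun x => by rw [algPt_ptMap, algPt_ptMap, hu, ← ha1]; simp [j]
        have h2 : VecGrp.ptMap ((Algebra.TensorProduct.map (AlgHom.id k B) a2).comp Algebra.TensorProduct.includeRight) ≫ uG =
            VecGrp.ptMap j ≫ uP ≫ fst G H :=
          pt_eq _ _ fun x => by rw [algPt_ptMap, algPt_ptMap, hu, ← ha2]; simp [j]
        rw [h1, h2, ← _root_.mul_assoc, S11234.algPt_mul_of_invariant i _ ((hR _).1 r.2)]
        refine congrArg (fun z => algPt z (r : Γ(G.left, ⊤))) (congrArg (fun w => w⁻¹ * _) ?_)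
        exact pt_eq _ _ fun x => by simp [algPt_ptMap]
      obtain ⟨y, hy⟩ := (Module.Flat.lTensor_exact B (LinearMap.exact_subtype_ker_map q) _).1 hq
      have h3 : ∃ w, iR B w = (LinearMap.ker q).subtype.lTensor B y := by
        clear hy
        induction y using TensorProduct.induction_on with
        | zero => exact ⟨0, by simp⟩
        | tmul p x => exact ⟨p ⊗ₜ[k] ⟨x.1, (hker _).2 x.2⟩, by simp [iR]⟩
        | add p q hp hq =>
          obtain ⟨w, hw⟩ := hp; obtain ⟨w', hw'⟩ := hq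
          exact ⟨w + w', by simp only [map_add, hw, hw']⟩
      obtain ⟨w, hw⟩ := h3
      refine ⟨b • w, ?_⟩
      rw [map_smul, hw, hy, ← map_smul]
      congr 1
      simp [iR, TensorProduct.smul_tmul', smul_eq_mul]
  choose F hF using hstab
  have hLext : ∀ (B : Type u) [CommRing B] [Algebra k B] (T T' : B ⊗[k] Γ(G.left, ⊤) →ₐ[B] B ⊗[k] Γ(G.left, ⊤)),
      (∀ f, T ((1 : B) ⊗ₜ[k] f) = T' ((1 : B) ⊗ₜ[k] f)) → T = T' := fun B _ _ T T' h =>
    Algebra.TensorProduct.ext (AlgHom.ext fun b => (T.commutes b).trans (T'.commutes b).symm) (AlgHom.ext fun f => h f)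
  have hLmul : ∀ (B : Type u) [CommRing B] [Algebra k B] (g g' : VecGrp.pt k B ⟶ G), L B (g * g') = (L B g).comp (L B g') :=
    fun B _ _ g g' => hLext B _ _ fun f => by
      rw [hL, AlgHom.comp_apply, show L B g (L B g' ((1 : B) ⊗ₜ[k] f)) = (L B g).restrictScalars k (L B g' ((1 : B) ⊗ₜ[k] f)) from rfl,
        hLpt, MonObj.comp_mul, _root_.mul_inv_rev, _root_.mul_assoc]
      refine congrArg (fun z => algPt z f) (congrArg₂ (fun a b => a⁻¹ * b) ?_ ?_)
      · exact pt_eq _ _ fun x => by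
          simp only [algPt_ptMap, AlgHom.comp_apply, AlgHom.restrictScalars_apply, Algebra.TensorProduct.includeLeft_apply]
          exact ((L B g).commutes _).symm
      · refine pt_eq _ _ fun x => ?_
        simp only [algPt_ptMap, AlgHom.comp_apply, AlgHom.restrictScalars_apply, hu, Algebra.TensorProduct.includeRight_apply]
        rw [hL]
  have hL1 : ∀ (B : Type u) [CommRing B] [Algebra k B], L B 1 = AlgHom.id B _ := fun B _ _ => hLext B _ _ fun f => by
    rw [hL, MonObj.comp_one, inv_one, _root_.one_mul, algPt_ptMap, hu]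
    simp
  have hFmul : ∀ (B : Type u) [CommRing B] [Algebra k B] (g g' : VecGrp.pt k B ⟶ G) z, F B (g * g') z = F B g (F B g' z) :=
    fun B _ _ g g' z => hinj B (by rw [hF, hF, hF, hLmul]; rfl)
  have hF1 : ∀ (B : Type u) [CommRing B] [Algebra k B] z, F B 1 z = z := fun B _ _ z => hinj B (by rw [hF, hL1]; rfl)
  let E : ∀ (B : Type u) [CommRing B] [Algebra k B] (g : VecGrp.pt k B ⟶ G), (B ⊗[k] R) ≃ₗ[B] (B ⊗[k] R) := fun B _ _ g =>
    { toFun := F B g
      map_add' := fun x y => hinj B (by rw [hF, map_add, map_add, map_add, hF, hF])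
      map_smul' := fun c x => hinj B (by rw [hF, RingHom.id_apply, map_smul, map_smul, map_smul, hF])
      invFun := F B g⁻¹
      left_inv := fun x => by rw [← hFmul, inv_mul_cancel, hF1]
      right_inv := fun x => by rw [← hFmul, mul_inv_cancel, hF1] }
  refine ⟨{ ρ := fun B _ _ => MonoidHom.mk' (E B) (fun g g' => LinearEquiv.ext fun z => hFmul B g g' z)
            naturality := fun {B B'} _ _ _ _ φ g z => ?_ },
    fun B _ _ g => ⟨fun x y => hinj B ?_, hinj B ?_⟩, fun B _ _ g r t φ hφ => ?_⟩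
  · show VecGrp.Wmap φ (F B g z) = F B' (VecGrp.ptMap φ ≫ g) (VecGrp.Wmap φ z)
    refine hinj B' ?_
    let W : B ⊗[k] Γ(G.left, ⊤) →ₐ[k] B' ⊗[k] Γ(G.left, ⊤) := Algebra.TensorProduct.map φ (AlgHom.id k _)
    have hWR : ∀ y : B ⊗[k] R, iR B' (VecGrp.Wmap φ y) = W (iR B y) := fun y => by
      induction y using TensorProduct.induction_on with
      | zero => simp
      | tmul b f => simp [W, iR]
      | add p q hp hq => simp only [map_add, hp, hq]
    rw [hWR, hF, hF, hWR]
    suffices h : W.comp ((L B g).restrictScalars k) = ((L B' (VecGrp.ptMap φ ≫ g)).restrictScalars k).comp W from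
      congrArg (fun T => T (iR B z)) h
    refine Algebra.TensorProduct.ext (AlgHom.ext fun b => ?_) (AlgHom.ext fun f => ?_)
    · simp only [AlgHom.comp_apply, Algebra.TensorProduct.includeLeft_apply, AlgHom.restrictScalars_apply]
      rw [show L B g (b ⊗ₜ[k] (1 : Γ(G.left, ⊤))) = b ⊗ₜ[k] (1 : Γ(G.left, ⊤)) from (L B g).commutes b]
      simp only [W, Algebra.TensorProduct.map_tmul, map_one]
      exact ((L B' (VecGrp.ptMap φ ≫ g)).commutes (φ b)).symm
    · simp only [AlgHom.comp_apply, AlgHom.restrictScalars_apply, Algebra.TensorProduct.includeRight_apply]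
      rw [hLpt, show W ((1 : B) ⊗ₜ[k] f) = (1 : B') ⊗ₜ[k] f by simp [W], hL]
      refine congrArg (fun z => algPt z f) (congrArg₂ (fun a b => a⁻¹ * b) ?_ ?_) <;>
        exact pt_eq _ _ fun x => by simp [algPt_ptMap, W]
  · show iR B (F B g (x * y)) = iR B (F B g x * F B g y)
    rw [hF, map_mul, map_mul, map_mul, hF, hF]
  · show iR B (F B g 1) = iR B 1
    rw [hF, map_one, map_one]
  · have e : ∀ w : B ⊗[k] R, Algebra.TensorProduct.productMap (AlgHom.id k B) (φ.comp R.val) w =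
        Algebra.TensorProduct.productMap (AlgHom.id k B) φ (iR B w) := fun w => by
      induction w using TensorProduct.induction_on with
      | zero => simp
      | tmul b f => simp [iR]
      | add p q hp hq => simp only [map_add, hp, hq]
    show Algebra.TensorProduct.productMap (AlgHom.id k B) (φ.comp R.val) (F B g ((1 : B) ⊗ₜ[k] r)) = _
    rw [e, hF, show iR B ((1 : B) ⊗ₜ[k] r) = (1 : B) ⊗ₜ[k] (r : Γ(G.left, ⊤)) by simp [iR], hLpt]
    refine congrArg (fun z => algPt z (r : Γ(G.left, ⊤))) (congrArg₂ (fun a b => a⁻¹ * b) ?_ ?_) <;>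
      exact pt_eq _ _ fun x => by simp [algPt_ptMap, hu, hφ]

end Groth.Agent.AGF12

end
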